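import Mathlib
import Cfsg.Prelude
import Cfsg.Agent.Lib.Lead.CITBase
import Cfsg.Agent.Lib.H46.ExtElt

/-! T-CIT, module M11: the arithmetic of `PSL₂(q)`, `q` odd, with centralizers of involutions 2-groups. -/

set_option autoImplicit false
set_option linter.style.haveILetI false
set_option linter.unusedVariables false

namespace H44.CITM11

open Matrix Lead.CIT

theorem odd_pow_sub {p n k : ℕ} (hp : Odd p) (hn : Odd n) (hp1 : 1 < p) (h : p ^ n = 2 ^ k + 1) : n = 1 := by
  have h1 : emultiplicity (2 : ℤ) ((p : ℤ) ^ n - 1 ^ n) = emultiplicity (2 : ℤ) ((p : ℤ) - 1) := by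
    apply emultiplicity_pow_sub_pow_of_prime Int.prime_two
    · obtain ⟨a, ha⟩ := hp
      exact ⟨a, by rw [ha]; push_cast; ring⟩
    · intro h
      obtain ⟨a, ha⟩ := hp
      omega
    · intro h
      obtain ⟨a, ha⟩ := hn
      omega
  have h2 : (2 : ℤ) ^ k ∣ (p : ℤ) ^ n - 1 ^ n := by
    refine ⟨1, ?_⟩
    have : (p : ℤ) ^ n = 2 ^ k + 1 := by exact_mod_cast h
    rw [this]; ring
  have h3 : (2 : ℤ) ^ k ∣ (p : ℤ) - 1 := by
    rw [pow_dvd_iff_le_emultiplicity] at h2 ⊢
    rwa [← h1]
  have h4 := Int.le_of_dvd (by omega) h3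
  have h5 : (p : ℤ) ^ n = 2 ^ k + 1 := by exact_mod_cast h
  have h6 : p ^ n ≤ p ^ 1 := by
    rw [pow_one]
    zify
    linarith
  have h7 := (Nat.pow_le_pow_iff_right hp1).mp h6
  obtain ⟨a, ha⟩ := hn
  omega

theorem odd_pow_add {p n k : ℕ} (hp : Odd p) (hn : Odd n) (hp1 : 1 < p) (h : p ^ n + 1 = 2 ^ k) : n = 1 := by
  have hm : (-1 : ℤ) ^ n = -1 := hn.neg_one_pow
  have h1 : emultiplicity (2 : ℤ) ((p : ℤ) ^ n - (-1) ^ n) = emultiplicity (2 : ℤ) ((p : ℤ) - (-1)) := by
    apply emultiplicity_pow_sub_pow_of_prime Int.prime_two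
    · obtain ⟨a, ha⟩ := hp
      exact ⟨a + 1, by rw [ha]; push_cast; ring⟩
    · intro h
      obtain ⟨a, ha⟩ := hp
      omega
    · intro h
      obtain ⟨a, ha⟩ := hn
      omega
  have h5 : (p : ℤ) ^ n + 1 = 2 ^ k := by exact_mod_cast h
  have h2 : (2 : ℤ) ^ k ∣ (p : ℤ) ^ n - (-1) ^ n := by
    refine ⟨1, ?_⟩
    rw [hm, ← h5]; ring
  have h3 : (2 : ℤ) ^ k ∣ (p : ℤ) - (-1) := by
    rw [pow_dvd_iff_le_emultiplicity] at h2 ⊢
    rwa [← h1]
  have h4 := Int.le_of_dvd (by omega) h3
  have h6 : p ^ n ≤ p ^ 1 := by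
    rw [pow_one]
    zify
    linarith
  have h7 := (Nat.pow_le_pow_iff_right hp1).mp h6
  obtain ⟨a, ha⟩ := hn
  omega

theorem even_pow_sub {p m k : ℕ} (hp1 : 1 < p) (hm : 0 < m) (h : p ^ (2 * m) = 2 ^ k + 1) (hodd : Odd p) :
    p ^ (2 * m) = 9 := by
  have hpm : 1 < p ^ m := Nat.one_lt_pow hm.ne' hp1
  have h1 : (p ^ m - 1) * (p ^ m + 1) = 2 ^ k := by
    have h2 : p ^ (2 * m) = p ^ m * p ^ m := by rw [two_mul, pow_add]
    rw [h2] at h
    obtain ⟨a, ha⟩ := Nat.exists_eq_add_of_lt hpm
    rw [ha] at h ⊢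
    have : 1 + a + 1 - 1 = a + 1 := by omega
    rw [this]
    nlinarith
  obtain ⟨a, _, ha⟩ := (Nat.dvd_prime_pow Nat.prime_two).mp ⟨_, h1.symm⟩
  obtain ⟨b, _, hb⟩ := (Nat.dvd_prime_pow Nat.prime_two).mp (Dvd.intro_left _ h1)
  have hpo : Odd (p ^ m) := hodd.pow
  have hab : 2 ^ b = 2 ^ a + 2 := by omega
  have ha1 : a = 1 := by
    rcases Nat.lt_or_ge a 2 with h2 | h2
    · interval_cases a
      · rw [pow_zero] at ha
        obtain ⟨c, hc⟩ := hpo
        omega
      · rfl
    · exfalso
      have h3 : (4 : ℕ) ∣ 2 ^ a := ⟨2 ^ (a - 2), by rw [show (4 : ℕ) = 2 ^ 2 by norm_num, ← pow_add]; congr 1; omega⟩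
      have h4 : 2 ≤ b := by
        by_contra hlt
        have : b ≤ 1 := by omega
        have h5 : 2 ^ b ≤ 2 ^ 1 := Nat.pow_le_pow_right (by norm_num) this
        have h6 : 0 < 2 ^ a := by positivity
        omega
      have h5 : (4 : ℕ) ∣ 2 ^ b := ⟨2 ^ (b - 2), by rw [show (4 : ℕ) = 2 ^ 2 by norm_num, ← pow_add]; congr 1; omega⟩
      omega
  rw [ha1] at ha
  have h7 : p ^ m = 3 := by omega
  rw [mul_comm, pow_mul, h7]
  norm_num

/-- a natural number all whose odd divisors of prime order are trivial -/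
theorem two_pow {n : ℕ} (hn : n ≠ 0) (h : ∀ r : ℕ, r.Prime → Odd r → ¬ r ∣ n) : ∃ k, n = 2 ^ k := by
  refine ⟨n.primeFactorsList.length, Nat.eq_prime_pow_of_unique_prime_dvd hn ?_⟩
  intro d hd hdn
  rcases hd.eq_two_or_odd' with h1 | h1
  · exact h1
  · exact absurd hdn (h d hd h1)

theorem arith {q p n : ℕ} (hp : p.Prime) (hodd : Odd q) (h3 : 3 < q) (hq : q = p ^ n)
    (h : (q % 4 = 1 ∧ ∃ k, q - 1 = 2 ^ k) ∨ (q % 4 = 3 ∧ ∃ k, q + 1 = 2 ^ k)) :
    q = 9 ∨ (q.Prime ∧ ∃ k : ℕ, q = 2 ^ k + 1 ∨ q + 1 = 2 ^ k) := by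
  have hn : n ≠ 0 := by rintro rfl; rw [pow_zero] at hq; omega
  have hpo : Odd p := by
    rw [hq] at hodd
    exact (Nat.odd_pow_iff hn).mp hodd
  rcases h with ⟨_, k, hk⟩ | ⟨h4, k, hk⟩
  · have hk1 : q = 2 ^ k + 1 := by omega
    rcases Nat.even_or_odd n with he | ho
    · obtain ⟨m, hm⟩ := he
      left
      have hm2 : n = 2 * m := by omega
      have := even_pow_sub hp.one_lt (by omega : 0 < m) (by rw [← hm2, ← hq]; exact hk1) hpo
      rw [hq, hm2, this]
    · right
      have h1 := odd_pow_sub hpo ho hp.one_lt (by rw [← hq]; exact hk1)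
      rw [h1, pow_one] at hq
      exact ⟨hq ▸ hp, k, Or.inl hk1⟩
  · rcases Nat.even_or_odd n with he | ho
    · exfalso
      obtain ⟨m, hm⟩ := he
      obtain ⟨a, ha⟩ := (hpo.pow : Odd (p ^ m))
      have : q = (2 * a + 1) * (2 * a + 1) := by rw [hq, hm, pow_add, ha]
      have h5 : q = 4 * (a * a + a) + 1 := by rw [this]; ring
      omega
    · right
      have h1 := odd_pow_add hpo ho hp.one_lt (by rw [← hq]; exact hk)
      rw [h1, pow_one] at hq
      exact ⟨hq ▸ hp, k, Or.inr hk⟩

section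
variable {F : Type*} [Field F] [Fintype F]

/-- an abstract version: a commutative ring `R` of matrices containing a square root `i` of `-1` with determinant one -/
theorem key {F : Type*} [Field F] (h2 : (2 : F) ≠ 0)
    (hS : Sep (Matrix.ProjectiveSpecialLinearGroup (Fin 2) F))
    {R : Type*} [CommRing R] (f : R →+* Matrix (Fin 2) (Fin 2) F) {i u : R} (hi : i * i = -1)
    (hid : (f i).det = 1) (hin : ∀ c : F, f i ≠ Matrix.scalar (Fin 2) c) (hud : (f u).det = 1) {r : ℕ}
    (hr : Odd r) (hu : u ^ r = 1) : f u = 1 := by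
  let t : SpecialLinearGroup (Fin 2) F := ⟨f i, hid⟩
  let x : SpecialLinearGroup (Fin 2) F := ⟨f u, hud⟩
  let π : SpecialLinearGroup (Fin 2) F →* Matrix.ProjectiveSpecialLinearGroup (Fin 2) F :=
    QuotientGroup.mk' _
  have hker : ∀ y, π y = 1 ↔ y ∈ Subgroup.center (SpecialLinearGroup (Fin 2) F) := fun y =>
    QuotientGroup.eq_one_iff y
  have ht : t ∉ Subgroup.center (SpecialLinearGroup (Fin 2) F) := by
    rw [Matrix.SpecialLinearGroup.mem_center_iff]
    rintro ⟨c, _, hc⟩
    exact hin c hc.symm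
  have htt : t * t ∈ Subgroup.center (SpecialLinearGroup (Fin 2) F) := by
    rw [Matrix.SpecialLinearGroup.mem_center_iff]
    refine ⟨-1, by simp, ?_⟩
    change Matrix.scalar (Fin 2) (-1 : F) = f i * f i
    rw [← map_mul, hi, map_neg, map_neg, map_one, map_one]
  have ho : orderOf (π t) = 2 := by
    apply orderOf_eq_prime
    · rw [pow_two, ← map_mul, hker]; exact htt
    · rw [Ne, hker]; exact ht
  have hx : x ^ r = 1 := by
    apply Subtype.ext
    change ((x ^ r : SpecialLinearGroup (Fin 2) F) : Matrix (Fin 2) (Fin 2) F) = 1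
    rw [Matrix.SpecialLinearGroup.coe_pow]
    change f u ^ r = 1
    rw [← map_pow, hu, map_one]
  have hox : Odd (orderOf (π x)) := by
    have : orderOf (π x) ∣ r := orderOf_dvd_of_pow_eq_one (by rw [← map_pow, hx, map_one])
    exact hr.of_dvd_nat this
  have hc : π x * π t = π t * π x := by
    rw [← map_mul, ← map_mul]
    congr 1
    apply Subtype.ext
    change f u * f i = f i * f u
    rw [← map_mul, ← map_mul, mul_comm]
  have h1 := hS (π x) (π t) ho hox hc
  rw [hker, Matrix.SpecialLinearGroup.mem_center_iff] at h1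
  obtain ⟨c, hc2, hc⟩ := h1
  have hcu : f u = Matrix.scalar (Fin 2) c := hc.symm
  rw [Fintype.card_fin] at hc2
  have h3 : c ^ r = 1 := by
    have : f (u ^ r) = 1 := by rw [hu, map_one]
    rw [map_pow, hcu, ← map_pow] at this
    have h4 := congrFun (congrFun this 0) 0
    simpa using h4
  have h4 : c = 1 := by
    obtain ⟨s, hs⟩ := hr
    rw [hs, pow_succ, pow_mul, hc2, one_pow, one_mul] at h3
    exact h3
  rw [hcu, h4, map_one]

theorem psl2_arith_core {F : Type*} [Field F] [Fintype F] (hodd : Odd (Fintype.card F))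
    (h3 : 3 < Fintype.card F)
    (hS : Sep (Matrix.ProjectiveSpecialLinearGroup (Fin 2) F)) :
    (Fintype.card F % 4 = 1 ∧ ∃ k, Fintype.card F - 1 = 2 ^ k) ∨
      (Fintype.card F % 4 = 3 ∧ ∃ k, Fintype.card F + 1 = 2 ^ k) := by
  have h2 : (2 : F) ≠ 0 := by
    intro h
    have h1 : ringChar F ∣ 2 := ringChar.dvd (by exact_mod_cast h)
    have h4 := FiniteField.odd_card_of_char_ne_two (F := F)
    have h5 : ringChar F = 2 := by
      rcases (Nat.dvd_prime Nat.prime_two).mp h1 with h6 | h6
      · exact absurd h6 (CharP.ringChar_ne_one)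
      · exact h6
    have := FiniteField.even_card_of_char_two h5
    rw [← Nat.not_even_iff_odd, Nat.even_iff] at hodd
    exact hodd this
  have hmod : Fintype.card F % 4 = 1 ∨ Fintype.card F % 4 = 3 := by
    rw [Nat.odd_iff] at hodd; omega
  have hne : (1 : F) ≠ -1 := by
    intro h
    apply h2
    linear_combination h
  rcases hmod with hm | hm
  · left
    refine ⟨hm, two_pow (by omega) ?_⟩
    intro r hr hro hrd
    -- square root of -1
    obtain ⟨i, hi⟩ : IsSquare (-1 : F) := FiniteField.isSquare_neg_one_iff.mpr (by omega)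
    obtain ⟨a, ha⟩ := H46.ExtElt.exists_unit_orderOf F r (by rw [Nat.card_eq_fintype_card]; exact hrd)
    -- diagonal matrices
    let f : (Fin 2 → F) →+* Matrix (Fin 2) (Fin 2) F := Matrix.diagonalRingHom (Fin 2) F
    have h4 := key h2 hS f (i := ![i, -i]) (u := ![(a : F), ((a⁻¹ : Fˣ) : F)]) (r := r)
      (by funext j; fin_cases j
          · simpa using hi.symm
          · simpa using hi.symm)
      (by change (Matrix.diagonal _).det = 1
          rw [Matrix.det_diagonal, Fin.prod_univ_two]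
          simp only [Matrix.cons_val_zero, Matrix.cons_val_one]
          linear_combination hi)
      (by intro c hc
          have e0 := congrFun (congrFun hc 0) 0
          have e1 := congrFun (congrFun hc 1) 1
          simp [f] at e0 e1
          have : i + i = 0 := by rw [← e1] at e0; linear_combination e0
          have hi0 : i = 0 := by
            have h5 : (2 : F) * i = 0 := by linear_combination this
            exact (mul_eq_zero.mp h5).resolve_left h2
          rw [hi0, mul_zero, neg_eq_zero] at hi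
          exact one_ne_zero hi)
      (by change (Matrix.diagonal _).det = 1
          rw [Matrix.det_diagonal, Fin.prod_univ_two]
          simp only [Matrix.cons_val_zero, Matrix.cons_val_one]
          exact a.mul_inv)
      hro
      (by funext j; fin_cases j
          · simp only [Pi.pow_apply, Fin.zero_eta, Matrix.cons_val_zero, Pi.one_apply]
            rw [← Units.val_pow_eq_pow_val, ← ha, pow_orderOf_eq_one, Units.val_one]
          · change ((a⁻¹ : Fˣ) : F) ^ r = 1
            rw [← Units.val_pow_eq_pow_val, inv_pow, ← ha, pow_orderOf_eq_one, inv_one, Units.val_one])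
    have h5 := congrFun (congrFun h4 0) 0
    have h6 : (a : F) = 1 := by simpa [f] using h5
    have h7 : a = 1 := Units.ext h6
    rw [h7, orderOf_one] at ha
    exact hr.one_lt.ne ha
  · right
    refine ⟨hm, two_pow (by omega) ?_⟩
    intro r hr hro hrd
    obtain ⟨K, _, _, _, hfr, hcard⟩ := H46.ExtElt.exists_field_ext F 2 (by norm_num)
    haveI := Fintype.ofFinite K
    rw [Nat.card_eq_fintype_card] at hcard
    haveI : FiniteDimensional F K := Module.finite_of_finrank_pos (by rw [hfr]; norm_num)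
    let b : Module.Basis (Fin 2) F K := Module.finBasisOfFinrankEq F K hfr
    let f : K →ₐ[F] Matrix (Fin 2) (Fin 2) F := Algebra.leftMulMatrix b
    have hdet : ∀ x : K, x ^ (Fintype.card F + 1) = 1 → (f x).det = 1 := by
      intro x hx
      have h4 : (f x).det = Algebra.norm F x := (Algebra.norm_eq_matrix_det b x).symm
      rw [h4]
      apply (algebraMap F K).injective
      rw [FiniteField.algebraMap_norm_eq_pow, map_one, Nat.card_eq_fintype_card, hcard, Nat.card_eq_fintype_card]
      have h5 : (Fintype.card F ^ 2 - 1) / (Fintype.card F - 1) = Fintype.card F + 1 := by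
        apply Nat.div_eq_of_eq_mul_left (by omega)
        obtain ⟨s, hs⟩ := Nat.exists_eq_add_of_lt (show 1 < Fintype.card F by omega)
        rw [hs]
        have : (1 + s + 1 - 1 : ℕ) = s + 1 := by omega
        rw [this]
        have h6 : (1 + s + 1) ^ 2 = (1 + s + 1 + 1) * (s + 1) + 1 := by ring
        rw [h6, Nat.add_sub_cancel]
      rw [h5, hx]
    obtain ⟨i, hi⟩ : IsSquare (-1 : K) := by
      rw [FiniteField.isSquare_neg_one_iff, hcard, Nat.card_eq_fintype_card, Nat.pow_mod, hm]
      norm_num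
    obtain ⟨a, ha⟩ := H46.ExtElt.exists_unit_orderOf K r (by
      rw [Nat.card_eq_fintype_card, hcard, Nat.card_eq_fintype_card]
      refine dvd_trans hrd ⟨Fintype.card F - 1, ?_⟩
      obtain ⟨s, hs⟩ := Nat.exists_eq_add_of_lt (show 1 < Fintype.card F by omega)
      rw [hs]
      have : (1 + s + 1 - 1 : ℕ) = s + 1 := by omega
      rw [this]
      have h6 : (1 + s + 1) ^ 2 = (1 + s + 1 + 1) * (s + 1) + 1 := by ring
      rw [h6, Nat.add_sub_cancel])
    have hinj : Function.Injective f := Algebra.leftMulMatrix_injective b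
    have h4 := key h2 hS (f : K →+* Matrix (Fin 2) (Fin 2) F) (i := i) (u := (a : K)) (r := r)
      hi.symm
      (by
        apply hdet
        obtain ⟨s, hs⟩ : 4 ∣ Fintype.card F + 1 := by omega
        rw [hs, pow_mul]
        have : i ^ 4 = 1 := by
          have h6 : i ^ 4 = (i * i) * (i * i) := by ring
          rw [h6, ← hi]; ring
        rw [this, one_pow])
      (by
        intro c hc
        have h6 : f i = f (algebraMap F K c) := by
          rw [AlgHom.commutes]
          exact hc
        have h7 := hinj h6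
        have h8 : IsSquare (-1 : F) := by
          refine ⟨c, ?_⟩
          apply (algebraMap F K).injective
          rw [map_neg, map_one, map_mul, ← h7]
          exact hi
        rw [FiniteField.isSquare_neg_one_iff] at h8
        exact h8 hm)
      (by
        apply hdet
        obtain ⟨s, hs⟩ := hrd
        rw [hs, pow_mul, ← Units.val_pow_eq_pow_val, ← ha, pow_orderOf_eq_one, Units.val_one, one_pow])
      hro
      (by rw [← Units.val_pow_eq_pow_val, ← ha, pow_orderOf_eq_one, Units.val_one])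
    have h5 : (a : K) = 1 := hinj (by rw [map_one]; exact h4)
    have h7 : a = 1 := Units.ext h5
    rw [h7, orderOf_one] at ha
    exact hr.one_lt.ne ha

end

/-- **T-CIT M11**. -/
theorem psl2_arith {F : Type} [Field F] [Fintype F] (hodd : Odd (Fintype.card F)) (h3 : 3 < Fintype.card F)
    (hS : Sep (Matrix.ProjectiveSpecialLinearGroup (Fin 2) F)) :
    Fintype.card F = 9 ∨ ((Fintype.card F).Prime ∧ ∃ k : ℕ, Fintype.card F = 2 ^ k + 1 ∨ Fintype.card F + 1 = 2 ^ k) := by
  obtain ⟨n, hp, hn⟩ := FiniteField.card F (ringChar F)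
  exact arith hp hodd h3 hn (psl2_arith_core hodd h3 hS)

end H44.CITM11
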