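import Mathlib

/-! Elementary facts on irreducible representations: characterisation by invariant subspaces,
nontriviality, transport, irreducibility of the smallest nontrivial representation. -/

set_option autoImplicit false

namespace H44.LSIrr

variable {G : Type*} [Group G] {K : Type*} [Field K] {V : Type*} [AddCommGroup V] [Module K V]

theorem irr_iff (ρ : Representation K G V) : ρ.IsIrreducible ↔
    (∃ v : V, v ≠ 0) ∧ ∀ W : Submodule K V, (∀ g, ∀ v ∈ W, ρ g v ∈ W) → W = ⊥ ∨ W = ⊤ := by
  constructor
  · intro h
    have h1 : IsSimpleOrder (Subrepresentation ρ) := h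
    refine ⟨?_, ?_⟩
    · by_contra hcon
      push Not at hcon
      have h2 : (⊥ : Subrepresentation ρ) = ⊤ := by
        apply Subrepresentation.toSubmodule_injective
        change (⊥ : Submodule K V) = ⊤
        ext v
        rw [hcon v]
        simp
      exact bot_ne_top h2
    · intro W hW
      rcases h1.eq_bot_or_eq_top ⟨W, hW⟩ with h2 | h2
      · left
        exact congrArg Subrepresentation.toSubmodule h2
      · right
        exact congrArg Subrepresentation.toSubmodule h2
  · rintro ⟨⟨v, hv⟩, h⟩
    refine { exists_pair_ne := ⟨⊥, ⊤, ?_⟩, eq_bot_or_eq_top := ?_ }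
    · intro h2
      have h3 : (⊥ : Submodule K V) = ⊤ := congrArg Subrepresentation.toSubmodule h2
      apply hv
      have : v ∈ (⊥ : Submodule K V) := by rw [h3]; trivial
      simpa using this
    · intro W
      rcases h W.toSubmodule W.apply_mem_toSubmodule with h2 | h2
      · left
        exact Subrepresentation.toSubmodule_injective h2
      · right
        exact Subrepresentation.toSubmodule_injective h2

/-- an irreducible representation of degree at least two is not trivial -/
theorem exists_ne_one [FiniteDimensional K V] (ρ : Representation K G V) (h : ρ.IsIrreducible)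
    (h2 : 2 ≤ Module.finrank K V) : ∃ g, ρ g ≠ 1 := by
  by_contra hcon
  push Not at hcon
  rw [irr_iff] at h
  obtain ⟨⟨v, hv⟩, h1⟩ := h
  rcases h1 (Submodule.span K {v}) (fun g w hw => by rw [hcon g]; exact hw) with h3 | h3
  · apply hv
    rw [Submodule.span_singleton_eq_bot] at h3
    exact h3
  · have h4 := finrank_span_le_card (R := K) ({v} : Set V)
    rw [h3, finrank_top] at h4
    simp at h4
    omega

/-- transport of irreducibility -/
theorem irr_of_equiv {V' : Type*} [AddCommGroup V'] [Module K V'] (ρ : Representation K G V)
    (ρ' : Representation K G V') (e : V ≃ₗ[K] V') (he : ∀ g v, e (ρ g v) = ρ' g (e v))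
    (h : ρ.IsIrreducible) : ρ'.IsIrreducible := by
  rw [irr_iff] at h ⊢
  obtain ⟨⟨v, hv⟩, h1⟩ := h
  refine ⟨⟨e v, by simpa using hv⟩, ?_⟩
  intro W hW
  rcases h1 (W.comap e.toLinearMap) (fun g v hv => by
    rw [Submodule.mem_comap] at hv ⊢
    change e (ρ g v) ∈ W
    rw [he]
    exact hW g _ hv) with h2 | h2
  · left
    rw [Submodule.eq_bot_iff] at h2 ⊢
    intro w hw
    have := h2 (e.symm w) (by rw [Submodule.mem_comap]; simpa using hw)
    simpa using this
  · right
    rw [Submodule.eq_top_iff'] at h2 ⊢
    intro w
    have := h2 (e.symm w)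
    rw [Submodule.mem_comap] at this
    simpa using this

/-- transporting a representation to coordinates -/
theorem exists_coord [FiniteDimensional K V] (ρ : Representation K G V) (h : ρ.IsIrreducible)
    {d : ℕ} (hd : Module.finrank K V = d) :
    ∃ ρ' : Representation K G (Fin d → K), ρ'.IsIrreducible := by
  obtain ⟨e⟩ : Nonempty (V ≃ₗ[K] (Fin d → K)) :=
    ⟨LinearEquiv.ofFinrankEq _ _ (by rw [hd, Module.finrank_fintype_fun_eq_card, Fintype.card_fin])⟩
  let ρ' : Representation K G (Fin d → K) :=
    { toFun := fun g => e.toLinearMap ∘ₗ ρ g ∘ₗ e.symm.toLinearMap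
      map_one' := by
        ext1 i
        ext
        simp
      map_mul' := fun g g' => by
        apply LinearMap.ext
        intro v
        simp [map_mul] }
  refine ⟨ρ', irr_of_equiv ρ ρ' e ?_ h⟩
  intro g v
  change e (ρ g v) = e (ρ g (e.symm (e v)))
  rw [e.symm_apply_apply]

/-- The smallest nontrivial representation of a finite group is irreducible in characteristic
zero. -/
theorem irr_of_small [Finite G] [CharZero K] [FiniteDimensional K V] (ρ : Representation K G V)
    (hρ : ∃ g, ρ g ≠ 1)
    (hsub : ∀ W : Submodule K V, ∀ τ : G →* Module.End K W,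
      Module.finrank K W < Module.finrank K V → ∀ g, τ g = 1)
    (hquot : ∀ W : Submodule K V, ∀ τ : G →* Module.End K (V ⧸ W),
      Module.finrank K (V ⧸ W) < Module.finrank K V → ∀ g, τ g = 1) :
    ρ.IsIrreducible := by
  rw [irr_iff]
  obtain ⟨g, hg⟩ := hρ
  refine ⟨?_, ?_⟩
  · by_contra hcon
    push Not at hcon
    apply hg
    apply LinearMap.ext
    intro v
    rw [hcon v, map_zero, map_zero]
  · intro W hW
    by_contra hcon
    push Not at hcon
    obtain ⟨hbot, htop⟩ := hcon
    apply hg
    -- the action on W
    let τ1 : G →* Module.End K W :=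
      { toFun := fun x => (ρ x).restrict (hW x)
        map_one' := by ext; simp
        map_mul' := fun x y => by ext; simp }
    let τ2 : G →* Module.End K (V ⧸ W) :=
      { toFun := fun x => W.mapQ W (ρ x) (hW x)
        map_one' := by ext; simp
        map_mul' := fun x y => by ext; simp }
    have hlt : Module.finrank K W < Module.finrank K V := Submodule.finrank_lt htop
    have hpos : 0 < Module.finrank K W := by
      rw [Module.finrank_pos_iff]
      exact Submodule.nontrivial_iff_ne_bot.mpr hbot
    have hadd := Submodule.finrank_quotient_add_finrank W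
    have h1 := hsub W τ1 hlt g
    have h2 := hquot W τ2 (by omega) g
    have h3 : ∀ w ∈ W, ρ g w = w := by
      intro w hw
      have := LinearMap.congr_fun h1 ⟨w, hw⟩
      exact congrArg Subtype.val this
    have h4 : ∀ v, ρ g v - v ∈ W := by
      intro v
      have h5 : W.mapQ W (ρ g) (hW g) (Submodule.Quotient.mk v) = Submodule.Quotient.mk v :=
        LinearMap.congr_fun h2 (Submodule.Quotient.mk v)
      rw [Submodule.mapQ_apply] at h5
      exact (Submodule.Quotient.eq W).mp h5
    apply LinearMap.ext
    intro v
    rw [Module.End.one_apply]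
    have h6 : ∀ k : ℕ, ρ (g ^ k) v = v + (k : K) • (ρ g v - v) := by
      intro k
      induction k with
      | zero => simp
      | succ k ih =>
        rw [pow_succ', map_mul, Module.End.mul_apply, ih, map_add, map_smul, h3 _ (h4 v)]
        push_cast
        rw [add_smul, one_smul]
        abel
    have h7 := h6 (orderOf g)
    rw [pow_orderOf_eq_one, map_one, Module.End.one_apply] at h7
    have h8 : ((orderOf g : ℕ) : K) • (ρ g v - v) = 0 := by
      have := sub_eq_zero.mpr h7
      rw [sub_add_cancel_left, neg_eq_zero] at this
      exact this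
    rcases smul_eq_zero.mp h8 with h9 | h9
    · exfalso
      have : 0 < orderOf g := orderOf_pos g
      rw [Nat.cast_eq_zero] at h9
      omega
    · exact sub_eq_zero.mp h9

end H44.LSIrr
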