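import Mathlib
import Cfsg.Agent.Lib.H56.BZ0
import Cfsg.Agent.Lib.H44.BZS0

set_option autoImplicit false
set_option linter.all false

namespace H44.BZ

open Subgroup Cfsg H51.FF H51.OG H52.PRes H52.PCore H51.Bau H1.Coprime2 H56.BmP H56.BmQ H56.BmV H56.BZ
open scoped commutatorElement MatrixGroups

variable {G : Type*} [Group G] [Finite G] {p : ℕ} [hp : Fact p.Prime]
variable {T : Sylow p G} {E : Subgroup G}

theorem small_HP (hG : centralizer (pCore p G : Set G) ≤ pCore p G) (hE : IsBaumannBlock p (T : Subgroup G) E)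
    (hs : Group.IsSolvable E) : HP p (T : Subgroup G) E := by
  obtain ⟨hc, hC, hfix, hsm⟩ := H52.BB.small hE hs
  have hp3 : p = 2 ∨ p = 3 := by
    rcases hsm with h | h
    · exact Or.inl h.1
    · exact Or.inr h.1
  have hidx : (pCoreOf p E).relIndex E = p ^ 2 - 1 := by
    rcases hsm with h | h
    · rw [h.2]; have := h.1; clear * - this; subst this; norm_num
    · rw [h.2]; have := h.1; clear * - this; subst this; norm_num
  have hVe : IsElementaryAbelian p (VG p G) := H13.Omega.isElementaryAbelian_omegaZ _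
  have hWV : WB p E ≤ VG p G := block_le hG hE
  have hWU : WB p E ≤ omegaOneCenter p (pCoreOf p E) :=
    H1.Coprime2.commutator_le_left (Subgroup.le_normalizer.trans nz_omegaOneCenter)
  have hQE : pCoreOf p E ≤ E := Subgroup.map_subtype_le _
  have hB : baumannSubgroupOf p (T : Subgroup G) ≤ normalizer (E : Set G) := by
    have h2 : ⁅E, baumannSubgroupOf p (T : Subgroup G)⁆ = E := hE.2.1
    have key : ∀ b ∈ baumannSubgroupOf p (T : Subgroup G), ∀ e ∈ E, b * e * b⁻¹ ∈ E := by
      intro b hb e he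
      have h3 : ⁅e, b⁆ ∈ E := by
        have := Subgroup.commutator_mem_commutator he hb
        rwa [h2] at this
      have h4 : b * e * b⁻¹ = (e⁻¹ * ⁅e, b⁆)⁻¹ := by
        rw [commutatorElement_def]; group
      rw [h4]
      exact inv_mem (mul_mem (inv_mem he) h3)
    intro b hb
    rw [mem_normalizer_iff]
    intro x
    constructor
    · exact key b hb x
    · intro h
      have := key b⁻¹ (inv_mem hb) _ h
      have h2 : b⁻¹ * (b * x * b⁻¹) * b⁻¹⁻¹ = x := by group
      rwa [h2] at this
  obtain ⟨H, h1, h2, h3, h4, h5⟩ := core (p := p) hp3 (E := E) (Q := pCoreOf p E) (W := WB p E)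
    (B := baumannSubgroupOf p (T : Subgroup G)) hQE
    (fun q hq w hw => H52.BB.QWc hq (hWU hw)) nz_WE hc (fun w hw => hVe.2 w (hWV hw)) hfix hidx hB
    (T.2.to_le (bau_le _))
  exact ⟨H, h1, h2, h3, h4, h5⟩

end H44.BZ
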