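import Cfsg.Agent.Lib.H44.LSLinear

/-! Counting the forms in a set of reflexive sesquilinear forms over a finite field that is closed
under congruence. -/

set_option autoImplicit false

open Matrix H44.LSLinear

namespace H44.LSForms

variable {F : Type*} [Field F] {ι : Type*} [Fintype ι] [DecidableEq ι]

/-- the sesquilinear form attached to a matrix -/
def fm (σ : F →+* F) (S : Matrix ι ι F) (x y : ι → F) : F := x ⬝ᵥ (S *ᵥ (fun j => σ (y j)))

omit [DecidableEq ι] in
theorem fm_add_left (σ : F →+* F) (S : Matrix ι ι F) (x x' y : ι → F) :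
    fm σ S (x + x') y = fm σ S x y + fm σ S x' y := add_dotProduct _ _ _

omit [DecidableEq ι] in
theorem fm_smul_left (σ : F →+* F) (S : Matrix ι ι F) (a : F) (x y : ι → F) :
    fm σ S (a • x) y = a * fm σ S x y := smul_dotProduct _ _ _

omit [DecidableEq ι] in
theorem fm_add_right (σ : F →+* F) (S : Matrix ι ι F) (x y y' : ι → F) :
    fm σ S x (y + y') = fm σ S x y + fm σ S x y' := by
  have : (fun j => σ ((y + y') j)) = (fun j => σ (y j)) + (fun j => σ (y' j)) := by
    ext j; simp
  rw [fm, this, mulVec_add, dotProduct_add]; rfl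

omit [DecidableEq ι] in
theorem fm_smul_right (σ : F →+* F) (S : Matrix ι ι F) (a : F) (x y : ι → F) :
    fm σ S x (a • y) = σ a * fm σ S x y := by
  have : (fun j => σ ((a • y) j)) = σ a • (fun j => σ (y j)) := by
    ext j; simp
  rw [fm, this, mulVec_smul, dotProduct_smul]; rfl

/-- congruence -/
def cong (σ : F →+* F) (g S : Matrix ι ι F) : Matrix ι ι F := gᵀ * S * g.map σ

omit [DecidableEq ι] in
theorem map_mulVec' (σ : F →+* F) (g : Matrix ι ι F) (y : ι → F) :
    g.map σ *ᵥ (fun j => σ (y j)) = fun j => σ ((g *ᵥ y) j) := by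
  ext i
  simp [mulVec, dotProduct, map_sum]

omit [DecidableEq ι] in
theorem fm_cong (σ : F →+* F) (g S : Matrix ι ι F) (x y : ι → F) :
    fm σ (cong σ g S) x y = fm σ S (g *ᵥ x) (g *ᵥ y) := by
  rw [fm, cong, ← mulVec_mulVec, map_mulVec', ← mulVec_mulVec, fm, dotProduct_mulVec x gᵀ,
    vecMul_transpose]

/-- the functional `x ↦ fm σ S x y` as a vector -/
def rv (σ : F →+* F) (S : Matrix ι ι F) (y : ι → F) : ι → F := S *ᵥ (fun j => σ (y j))

omit [DecidableEq ι] in
theorem rv_dot (σ : F →+* F) (S : Matrix ι ι F) (x y : ι → F) : rv σ S y ⬝ᵥ x = fm σ S x y := by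
  rw [rv, fm, dotProduct_comm]

omit [DecidableEq ι] in
theorem vec_ext (u v : ι → F) (h : ∀ x, u ⬝ᵥ x = v ⬝ᵥ x) : u = v := by
  classical
  ext i
  have := h (Pi.single i 1)
  simpa using this

variable [Fintype F] [DecidableEq F]

theorem count (σ : F →+* F) {m : ℕ} (hm : Fintype.card ι = m + 1) (X : Finset (Matrix ι ι F))
    (hrefl : ∀ S ∈ X, ∀ x y, fm σ S x y = 0 → fm σ S y x = 0)
    (P : Matrix ι ι F → Prop) (hclosed : ∀ S ∈ X, ∀ g, P g → cong σ g S ∈ X)
    (hpair : ∀ (p x0 r f : ι → F) (c : F), c ≠ 0 → r ⬝ᵥ p = c → f ⬝ᵥ x0 = c →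
      ∃ g : Matrix ι ι F, P g ∧ g *ᵥ p = x0 ∧ ∀ y, f ⬝ᵥ (g *ᵥ y) = r ⬝ᵥ y)
    (N : ℕ) (hN : ∀ d : F, (Finset.univ.filter (fun a : F => a * σ a = d)).card ≤ N)
    (S0 : Matrix ι ι F) (hS0 : S0 ∈ X) (x0 : ι → F) (hx0 : fm σ S0 x0 x0 ≠ 0) :
    Fintype.card F ^ (m + 1) - 1 ≤ X.card * N := by
  classical
  set c := fm σ S0 x0 x0 with hc
  let Pt : Finset (ι → F) := Finset.univ.erase 0
  have hPt : Pt.card = Fintype.card F ^ (m + 1) - 1 := by
    rw [Finset.card_erase_of_mem (Finset.mem_univ _), Finset.card_univ, Fintype.card_fun, hm]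
  have key := Finset.card_mul_le_card_mul (s := Pt) (t := X) (fun p T => fm σ T p p = c)
    (m := Fintype.card F ^ m) (n := N * Fintype.card F ^ m) ?_ ?_
  · rw [hPt, ← mul_assoc] at key
    exact Nat.le_of_mul_le_mul_right key (pow_pos Fintype.card_pos m)
  · -- each point has many forms
    intro p hp
    have hp0 : p ≠ 0 := Finset.ne_of_mem_erase hp
    rw [← card_fiber' hm p hp0 c]
    refine Finset.card_le_card_of_surjOn (fun T => rv σ T p) ?_
    intro r hr
    simp only [Finset.coe_filter, Finset.mem_univ, true_and, Set.mem_ofPred_eq] at hr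
    rw [dotProduct_comm] at hr
    obtain ⟨g, hg1, hg2, hg3⟩ := hpair p x0 r (rv σ S0 x0) c hx0 hr (by rw [rv_dot])
    refine ⟨cong σ g S0, ?_, ?_⟩
    · simp only [Finset.coe_bipartiteAbove, Set.mem_ofPred_eq]
      refine ⟨hclosed S0 hS0 g hg1, ?_⟩
      rw [fm_cong, hg2]
    · apply vec_ext
      intro x
      rw [rv_dot, fm_cong, hg2, ← rv_dot, hg3]
  · -- each form has few points
    intro T hT
    by_cases hne : ∃ z, fm σ T z z = c
    · obtain ⟨z, hz⟩ := hne
      -- the functional f = fm T · z
      have hf0 : rv σ T z ≠ 0 := by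
        intro h0
        have := rv_dot σ T z z
        rw [h0, zero_dotProduct, hz] at this
        exact hx0 this.symm
      let φ : (ι → F) → (ι → F) := fun x => x - (fm σ T x z / c) • z
      have himg : ∀ x, fm σ T (φ x) z = 0 := by
        intro x
        have : φ x = x + (-(fm σ T x z / c)) • z := by simp only [φ]; rw [neg_smul]; abel
        rw [this, fm_add_left, fm_smul_left, hz]
        field_simp
        ring
      have h1 := Finset.card_le_mul_card_image (f := φ)
        (Pt.bipartiteBelow (fun p T => fm σ T p p = c) T) N ?_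
      · refine h1.trans (Nat.mul_le_mul_left _ ?_)
        rw [← card_fiber' hm (rv σ T z) hf0 0]
        apply Finset.card_le_card
        intro y hy
        rw [Finset.mem_image] at hy
        obtain ⟨x, _, rfl⟩ := hy
        simp only [Finset.mem_filter, Finset.mem_univ, true_and]
        rw [rv_dot, himg]
      · -- fibres
        intro y hy
        rw [Finset.mem_image] at hy
        obtain ⟨x', _, hx'⟩ := hy
        have hyz : fm σ T y z = 0 := by rw [← hx']; exact himg x'
        have hzy : fm σ T z y = 0 := hrefl T hT y z hyz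
        refine le_trans ?_ (hN ((c - fm σ T y y) / c))
        refine Finset.card_le_card_of_injOn (fun x => fm σ T x z / c) ?_ ?_
        · intro x hx
          simp only [Finset.coe_filter, Finset.mem_bipartiteBelow, Set.mem_ofPred_eq,
            Finset.mem_univ, true_and] at hx ⊢
          obtain ⟨⟨_, hxc⟩, hxy⟩ := hx
          set a := fm σ T x z / c with ha
          have hxe : x = a • z + y := by
            rw [← hxy]; simp only [φ, ← ha]; abel
          have h2 : fm σ T x x = a * σ a * c + fm σ T y y := by
            conv_lhs => rw [hxe]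
            rw [fm_add_left, fm_add_right, fm_add_right, fm_smul_left, fm_smul_left,
              fm_smul_right, fm_smul_right, hz, hyz, hzy]
            ring
          rw [hxc] at h2
          field_simp
          linear_combination -h2
        · intro x hx x2 hx2 h3
          simp only [Finset.coe_filter, Finset.mem_bipartiteBelow, Set.mem_ofPred_eq] at hx hx2
          have h4 := hx.2
          have h5 := hx2.2
          simp only at h3
          have h6 : x - (fm σ T x z / c) • z = x2 - (fm σ T x2 z / c) • z := by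
            rw [show x - (fm σ T x z / c) • z = y from h4,
              show x2 - (fm σ T x2 z / c) • z = y from h5]
          rw [h3] at h6
          exact sub_left_injective h6
    · push Not at hne
      rw [Finset.card_eq_zero.mpr]
      · exact Nat.zero_le _
      · apply Finset.eq_empty_of_forall_notMem
        intro x hx
        rw [Finset.mem_bipartiteBelow] at hx
        exact hne x hx.2

end H44.LSForms
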