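import Cfsg.Agent.Lib.H44.LSWeights
import Cfsg.Agent.Lib.H44.LSForms

/-! The Landazuri–Seitz bound for a group with an abelian subgroup isomorphic to the group of
hermitian (or symmetric) matrices normalised by a copy of `SL`. -/

set_option autoImplicit false

open Matrix H44.LSLinear H44.LSForms H44.LSWeights

namespace H44.LSBound

variable {F : Type*} [Field F] {ι : Type*} [Fintype ι] [DecidableEq ι]

/-- the additive group of `σ`-hermitian matrices -/
def Hm (ι : Type*) (σ : F →+* F) : AddSubgroup (Matrix ι ι F) where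
  carrier := {a | (a.map σ)ᵀ = a}
  add_mem' {x y} hx hy := by
    simp only [Set.mem_ofPred_eq] at hx hy ⊢
    rw [Matrix.map_add _ (map_add σ), transpose_add, hx, hy]
  zero_mem' := by
    simp only [Set.mem_ofPred_eq]
    rw [Matrix.map_zero _ (map_zero σ), transpose_zero]
  neg_mem' {x} hx := by
    simp only [Set.mem_ofPred_eq] at hx ⊢
    ext i j
    have := congrFun (congrFun hx i) j
    simp only [transpose_apply, map_apply, Matrix.neg_apply, map_neg] at this ⊢
    rw [this]

omit [Fintype ι] [DecidableEq ι] in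
theorem mem_Hm {σ : F →+* F} {a : Matrix ι ι F} : a ∈ Hm ι σ ↔ (a.map σ)ᵀ = a := Iff.rfl

omit [Fintype ι] [DecidableEq ι] in
theorem mem_Hm_iff {σ : F →+* F} {a : Matrix ι ι F} : a ∈ Hm ι σ ↔ ∀ i j, σ (a i j) = a j i := by
  rw [mem_Hm]
  constructor
  · intro h i j
    have := congrFun (congrFun h j) i
    simpa using this
  · intro h
    ext i j
    simpa using h j i

omit [DecidableEq ι] in
theorem cong_mem {σ : F →+* F} (hσ : ∀ x, σ (σ x) = x) (g S : Matrix ι ι F) (hS : S ∈ Hm ι σ) :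
    cong σ g S ∈ Hm ι σ := by
  rw [mem_Hm] at hS ⊢
  have h1 : (g.map σ).map σ = g := by ext i j; simp [hσ]
  rw [cong, Matrix.map_mul, Matrix.map_mul, transpose_mul, transpose_mul, h1, hS,
    transpose_map, transpose_transpose, mul_assoc]

omit [DecidableEq ι] in
/-- the action on the unipotent group -/
theorem act_mem {σ : F →+* F} (hσ : ∀ x, σ (σ x) = x) (k a : Matrix ι ι F) (ha : a ∈ Hm ι σ) :
    k.map σ * a * kᵀ ∈ Hm ι σ := by
  have h1 := cong_mem hσ (k.map σ)ᵀ a ha
  have h2 : (k.map σ).map σ = k := by ext i j; simp [hσ]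
  rw [cong, transpose_transpose, transpose_map, h2] at h1
  exact h1

omit [Fintype ι] [DecidableEq ι] in
theorem rank1_mem {σ : F →+* F} (hσ : ∀ x, σ (σ x) = x) (x : ι → F) (c : F) (hc : σ c = c) :
    c • vecMulVec (fun i => σ (x i)) x ∈ Hm ι σ := by
  rw [mem_Hm_iff]
  intro i j
  simp only [Matrix.smul_apply, vecMulVec_apply, smul_eq_mul, map_mul, hσ, hc]
  ring

omit [DecidableEq ι] in
theorem trace_rank1 (σ : F →+* F) (D : Matrix ι ι F) (x : ι → F) (c : F) :
    (D * (c • vecMulVec (fun i => σ (x i)) x)).trace = c * fm σ D x x := by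
  rw [Matrix.mul_smul, trace_smul, smul_eq_mul, mul_vecMulVec, trace_vecMulVec, fm,
    dotProduct_comm]

variable {K : Type*} [Field K]

/-- the character attached to a hermitian matrix -/
def chi (σ : F →+* F) (ψ : Multiplicative F →* Kˣ) (S : Matrix ι ι F) :
    Multiplicative (Hm ι σ) →* Kˣ where
  toFun a := ψ (Multiplicative.ofAdd ((S * (Multiplicative.toAdd a).1).trace))
  map_one' := by
    rw [toAdd_one, AddSubgroup.coe_zero, mul_zero, trace_zero, ofAdd_zero, map_one]
  map_mul' a b := by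
    rw [toAdd_mul, AddSubgroup.coe_add, mul_add, trace_add, ofAdd_add, map_mul]

theorem chi_apply (σ : F →+* F) (ψ : Multiplicative F →* Kˣ) (S : Matrix ι ι F)
    (a : Multiplicative (Hm ι σ)) :
    chi σ ψ S a = ψ (Multiplicative.ofAdd ((S * (Multiplicative.toAdd a).1).trace)) := rfl

theorem chi_inj {σ : F →+* F} (hσ : ∀ x, σ (σ x) = x)
    (hsep : ∀ D ∈ Hm ι σ, (∀ x, fm σ D x x = 0) → D = 0)
    (ψ : Multiplicative F →* Kˣ) (hψ : ∃ c, σ c = c ∧ ψ (Multiplicative.ofAdd c) ≠ 1)
    (hfix : ∀ D ∈ Hm ι σ, ∀ x, σ (fm σ D x x) = fm σ D x x)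
    {S T : Matrix ι ι F} (hS : S ∈ Hm ι σ) (hT : T ∈ Hm ι σ) (h : chi σ ψ S = chi σ ψ T) :
    S = T := by
  obtain ⟨c, hc, hc1⟩ := hψ
  rw [← sub_eq_zero]
  have hD := (Hm ι σ).sub_mem hS hT
  apply hsep _ hD
  intro x
  by_contra hne
  -- scale
  set t := fm σ (S - T) x x with ht
  have htσ : σ t = t := hfix _ hD x
  have hct : σ (c * t⁻¹) = c * t⁻¹ := by rw [map_mul, map_inv₀, hc, htσ]
  have h1 := DFunLike.congr_fun h (Multiplicative.ofAdd (⟨_, rank1_mem hσ x (c * t⁻¹) hct⟩ : Hm ι σ))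
  rw [chi_apply, chi_apply, toAdd_ofAdd, trace_rank1, trace_rank1] at h1
  apply hc1
  have h2 : c = (c * t⁻¹) * fm σ S x x - (c * t⁻¹) * fm σ T x x := by
    have h3 : t = fm σ S x x - fm σ T x x := by
      rw [ht, fm, sub_mulVec, dotProduct_sub]; rfl
    rw [← mul_sub, ← h3, mul_assoc, inv_mul_cancel₀ hne, mul_one]
  rw [h2, ofAdd_sub, map_div, h1, div_self']

theorem ringChar_ne_zero [Fintype F] (hp : (Fintype.card F : K) ≠ 0) :
    ((ringChar F : ℕ) : K) ≠ 0 := by
  intro h0
  apply hp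
  have h1 : ringChar F ∣ Fintype.card F :=
    (CharP.cast_eq_zero_iff F (ringChar F) (Fintype.card F)).mp (FiniteField.cast_card_eq_zero F)
  obtain ⟨c, hc⟩ := h1
  rw [hc, Nat.cast_mul, h0, zero_mul]

omit [Fintype ι] [DecidableEq ι] in
theorem exponent_Hm [Fintype F] (σ : F →+* F) :
    Monoid.exponent (Multiplicative (Hm ι σ)) ∣ ringChar F := by
  apply Monoid.exponent_dvd_of_forall_pow_eq_one
  intro a
  apply Multiplicative.toAdd.injective
  rw [toAdd_pow, toAdd_one]
  apply Subtype.ext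
  rw [AddSubgroup.coe_nsmul, AddSubgroup.coe_zero]
  ext i k
  rw [Matrix.smul_apply, nsmul_eq_mul, CharP.cast_eq_zero, zero_mul, Matrix.zero_apply]

omit [DecidableEq ι] in
theorem card_Hm_ne_zero [Fintype F] (σ : F →+* F) (hp : (Fintype.card F : K) ≠ 0) :
    (Nat.card (Multiplicative (Hm ι σ)) : K) ≠ 0 := by
  intro h0
  have hfinM : Finite (Matrix ι ι F) := by
    have : Finite (ι → ι → F) := inferInstance
    exact this
  have hprime : Fact (ringChar F).Prime := ⟨CharP.char_is_prime F (ringChar F)⟩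
  have hexpA := exponent_Hm (ι := ι) σ
  -- the group is a `p`-group
  have hpg : IsPGroup (ringChar F) (Multiplicative (Hm ι σ)) := by
    intro a
    refine ⟨1, ?_⟩
    rw [pow_one]
    obtain ⟨c, hc⟩ := hexpA
    conv_lhs => rw [hc]
    rw [pow_mul, Monoid.pow_exponent_eq_one, one_pow]
  obtain ⟨k, hk⟩ := IsPGroup.iff_card.mp hpg
  rw [hk, Nat.cast_pow] at h0
  exact ringChar_ne_zero hp (eq_zero_of_pow_eq_zero h0)

variable {V : Type*} [AddCommGroup V] [Module K V] {G : Type*} [Group G]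

theorem exists_chars [Fintype F] [IsAlgClosed K] (hp : (Fintype.card F : K) ≠ 0)
    {σ : F →+* F} (hσ : ∀ x, σ (σ x) = x)
    (hsep : ∀ D ∈ Hm ι σ, (∀ x, fm σ D x x = 0) → D = 0)
    {m : ℕ} (hm : Fintype.card ι = m + 1)
    (P : Matrix ι ι F → Prop) (hPdet : ∀ g, P g → g.det ≠ 0)
    (hpair : ∀ (p x0 r f : ι → F) (c : F), c ≠ 0 → r ⬝ᵥ p = c → f ⬝ᵥ x0 = c →
      ∃ g : Matrix ι ι F, P g ∧ g *ᵥ p = x0 ∧ ∀ y, f ⬝ᵥ (g *ᵥ y) = r ⬝ᵥ y)
    (τ : G →* Module.End K V) (j : Multiplicative (Hm ι σ) →* G)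
    (hlevi : ∀ g : Matrix ι ι F, P g → ∃ L : G, ∀ a : Hm ι σ,
      L * j (Multiplicative.ofAdd a) = j (Multiplicative.ofAdd
        ⟨(g⁻¹).map σ * a.1 * (g⁻¹)ᵀ, act_mem hσ _ _ a.2⟩) * L)
    (b : Multiplicative (Hm ι σ)) (hb : τ (j b) ≠ 1)
    (N : ℕ) (hN : ∀ (s : Finset F) (d : F), (∀ a ∈ s, a * σ a = d) → s.card ≤ N) :
    ∃ X : Finset (Multiplicative (Hm ι σ) →* Kˣ),
      (∀ χ ∈ X, χ ≠ 1 ∧ wt (τ.comp j) χ ≠ ⊥) ∧ Fintype.card F ^ (m + 1) - 1 ≤ X.card * N := by
  classical
  have hfix : ∀ D ∈ Hm ι σ, ∀ x, σ (fm σ D x x) = fm σ D x x := by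
    intro D hD x
    rw [mem_Hm_iff] at hD
    simp only [fm, dotProduct, mulVec, map_sum, map_mul, hσ, hD, Finset.mul_sum]
    rw [Finset.sum_comm]
    refine Finset.sum_congr rfl (fun i _ => Finset.sum_congr rfl (fun k _ => ?_))
    ring
  -- cardinality facts
  have hfinM : Finite (Matrix ι ι F) := by
    have : Finite (ι → ι → F) := inferInstance
    exact this
  have hfin : Finite (Multiplicative (Hm ι σ)) := inferInstance
  have hprime : Fact (ringChar F).Prime := ⟨CharP.char_is_prime F (ringChar F)⟩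
  have hpK : ((ringChar F : ℕ) : K) ≠ 0 := ringChar_ne_zero hp
  have hexpA : Monoid.exponent (Multiplicative (Hm ι σ)) ∣ ringChar F := exponent_Hm σ
  have hexpF : Monoid.exponent (Multiplicative F) ∣ ringChar F := by
    apply Monoid.exponent_dvd_of_forall_pow_eq_one
    intro a
    apply Multiplicative.toAdd.injective
    rw [toAdd_pow, toAdd_one, nsmul_eq_mul, CharP.cast_eq_zero, zero_mul]
  have hne : ∀ k : ℕ, k ∣ ringChar F → NeZero ((k : ℕ) : K) := by
    intro k hk
    refine ⟨fun h0 => hpK ?_⟩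
    obtain ⟨c, hc⟩ := hk
    rw [hc, Nat.cast_mul, h0, zero_mul]
  have := hne _ hexpA
  have := hne _ hexpF
  have : HasEnoughRootsOfUnity K (Monoid.exponent (Multiplicative (Hm ι σ))) := inferInstance
  have : HasEnoughRootsOfUnity K (Monoid.exponent (Multiplicative F)) := inferInstance
  have hcardA : (Nat.card (Multiplicative (Hm ι σ)) : K) ≠ 0 := card_Hm_ne_zero σ hp
  -- the additive character
  obtain ⟨ψ, hψ⟩ := CommGroup.exists_apply_ne_one_of_hasEnoughRootsOfUnity (Multiplicative F) K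
    (a := Multiplicative.ofAdd (1 : F)) (by
      intro h
      exact one_ne_zero (Multiplicative.ofAdd.injective (h.trans ofAdd_zero.symm)))
  have hψ' : ∃ c, σ c = c ∧ ψ (Multiplicative.ofAdd c) ≠ 1 := ⟨1, map_one σ, hψ⟩
  -- bijectivity of chi
  have hfinC : Finite (Multiplicative (Hm ι σ) →* Kˣ) := by
    have h := CommGroup.card_monoidHom_of_hasEnoughRootsOfUnity (Multiplicative (Hm ι σ)) K
    exact Nat.finite_of_card_ne_zero (by rw [h]; exact Nat.card_pos.ne')
  have hsurj : Function.Surjective (fun S : Hm ι σ => chi (K := K) σ ψ S.1) := by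
    have h1 : Function.Injective (fun S : Hm ι σ => chi (K := K) σ ψ S.1) := by
      intro S T h
      exact Subtype.ext (chi_inj hσ hsep ψ hψ' hfix S.2 T.2 h)
    have h2 : Nat.card (Hm ι σ) = Nat.card (Multiplicative (Hm ι σ) →* Kˣ) := by
      rw [CommGroup.card_monoidHom_of_hasEnoughRootsOfUnity]
      exact Nat.card_congr Multiplicative.ofAdd
    exact ((Nat.bijective_iff_injective_and_card _).mpr ⟨h1, h2⟩).2
  -- the weights
  obtain ⟨χ0, hχ0, hχ0b⟩ := exists_weight hcardA (τ.comp j) b hb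
  obtain ⟨⟨S0, hS0⟩, hS0χ⟩ := hsurj χ0
  simp only at hS0χ
  have hS0ne : S0 ≠ 0 := by
    rintro rfl
    apply hχ0b
    rw [← hS0χ, chi_apply, zero_mul, trace_zero, ofAdd_zero, map_one]
  have hx0 : ∃ x0, fm σ S0 x0 x0 ≠ 0 := by
    by_contra hcon
    push Not at hcon
    exact hS0ne (hsep S0 hS0 hcon)
  obtain ⟨x0, hx0⟩ := hx0
  let Xs : Set (Matrix ι ι F) := {S | S ∈ Hm ι σ ∧ S ≠ 0 ∧ wt (τ.comp j) (chi σ ψ S) ≠ ⊥}
  have hXf : Xs.Finite := Set.toFinite _
  let X : Finset (Matrix ι ι F) := hXf.toFinset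
  have hX : ∀ S, S ∈ X ↔ S ∈ Hm ι σ ∧ S ≠ 0 ∧ wt (τ.comp j) (chi σ ψ S) ≠ ⊥ := by
    intro S; exact hXf.mem_toFinset
  refine ⟨X.image (chi σ ψ), ?_, ?_⟩
  · intro χ hχ
    rw [Finset.mem_image] at hχ
    obtain ⟨S, hS, rfl⟩ := hχ
    rw [hX] at hS
    refine ⟨?_, hS.2.2⟩
    intro h1
    apply hS.2.1
    apply chi_inj hσ hsep ψ hψ' hfix hS.1 (Hm ι σ).zero_mem
    rw [h1]
    refine MonoidHom.ext (fun a => ?_)
    rw [chi_apply, zero_mul, trace_zero, ofAdd_zero, map_one]
    rfl
  · rw [Finset.card_image_of_injOn]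
    · refine count σ hm X ?_ P ?_ hpair N ?_ S0 ?_ x0 hx0
      · intro S hS x y h
        rw [hX] at hS
        have : fm σ S y x = σ (fm σ S x y) := by
          have h2 := mem_Hm_iff.mp hS.1
          simp only [fm, dotProduct, mulVec, map_sum, map_mul, hσ, h2, Finset.mul_sum]
          rw [Finset.sum_comm]
          refine Finset.sum_congr rfl (fun i _ => Finset.sum_congr rfl (fun k _ => ?_))
          ring
        rw [this, h, map_zero]
      · intro S hS g hg
        rw [hX] at hS ⊢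
        have hdet := hPdet g hg
        have hunit : IsUnit g.det := isUnit_iff_ne_zero.mpr hdet
        have hgi : g * g⁻¹ = 1 := mul_nonsing_inv g hunit
        have hgi2 : g⁻¹ * g = 1 := nonsing_inv_mul g hunit
        refine ⟨cong_mem hσ g S hS.1, ?_, ?_⟩
        · intro h0
          apply hS.2.1
          have h1 : (g⁻¹)ᵀ * (cong σ g S) * (g⁻¹).map σ = S := by
            rw [cong]
            have h2 : (g⁻¹)ᵀ * gᵀ = 1 := by rw [← transpose_mul, hgi, transpose_one]
            have h3 : g.map σ * (g⁻¹).map σ = 1 := by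
              rw [← Matrix.map_mul, hgi, Matrix.map_one _ (map_zero σ) (map_one σ)]
            calc (g⁻¹)ᵀ * (gᵀ * S * g.map σ) * (g⁻¹).map σ
                = ((g⁻¹)ᵀ * gᵀ) * S * (g.map σ * (g⁻¹).map σ) := by
                  simp only [mul_assoc]
              _ = S := by rw [h2, h3, one_mul, mul_one]
          rw [h0, mul_zero, zero_mul] at h1
          exact h1.symm
        · obtain ⟨L, hL⟩ := hlevi g hg
          have hLinj : Function.Injective (τ L : V →ₗ[K] V) := by
            intro v w h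
            have h1 : τ L⁻¹ (τ L v) = τ L⁻¹ (τ L w) := by rw [h]
            rw [← Module.End.mul_apply, ← Module.End.mul_apply, ← map_mul, inv_mul_cancel,
              map_one] at h1
            exact h1
          refine wt_map_ne_bot (τ.comp j) (τ L) hLinj
            (fun a => Multiplicative.ofAdd ⟨(g⁻¹).map σ * (Multiplicative.toAdd a).1 * (g⁻¹)ᵀ,
              act_mem hσ _ _ (Multiplicative.toAdd a).2⟩) ?_ ?_ (chi σ ψ S) _ ?_ hS.2.2
          · intro a v
            rw [MonoidHom.comp_apply, MonoidHom.comp_apply, ← Module.End.mul_apply,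
              ← Module.End.mul_apply, ← map_mul, ← map_mul]
            have := hL (Multiplicative.toAdd a)
            rw [ofAdd_toAdd] at this
            rw [this]
          · intro a
            refine ⟨Multiplicative.ofAdd ⟨g.map σ * (Multiplicative.toAdd a).1 * gᵀ,
              act_mem hσ _ _ (Multiplicative.toAdd a).2⟩, ?_⟩
            apply Multiplicative.toAdd.injective
            apply Subtype.ext
            simp only [toAdd_ofAdd]
            have h2 : gᵀ * (g⁻¹)ᵀ = 1 := by rw [← transpose_mul, hgi2, transpose_one]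
            have h3 : (g⁻¹).map σ * g.map σ = 1 := by
              rw [← Matrix.map_mul, hgi2, Matrix.map_one _ (map_zero σ) (map_one σ)]
            calc (g⁻¹).map σ * (g.map σ * (Multiplicative.toAdd a).1 * gᵀ) * (g⁻¹)ᵀ
                = ((g⁻¹).map σ * g.map σ) * (Multiplicative.toAdd a).1 * (gᵀ * (g⁻¹)ᵀ) := by
                  simp only [mul_assoc]
              _ = (Multiplicative.toAdd a).1 := by rw [h2, h3, one_mul, mul_one]
          · intro a
            rw [chi_apply, chi_apply, toAdd_ofAdd]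
            congr 2
            simp only
            have h2 : (g⁻¹)ᵀ * gᵀ = 1 := by rw [← transpose_mul, hgi, transpose_one]
            have h3 : g.map σ * (g⁻¹).map σ = 1 := by
              rw [← Matrix.map_mul, hgi, Matrix.map_one _ (map_zero σ) (map_one σ)]
            calc (cong σ g S * ((g⁻¹).map σ * (Multiplicative.toAdd a).1 * (g⁻¹)ᵀ)).trace
                = ((gᵀ * S * (g.map σ * (g⁻¹).map σ) * (Multiplicative.toAdd a).1) *
                    (g⁻¹)ᵀ).trace := by
                  rw [cong]; simp only [mul_assoc]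
              _ = ((g⁻¹)ᵀ * (gᵀ * S * (Multiplicative.toAdd a).1)).trace := by
                  rw [h3, mul_one, trace_mul_comm]
              _ = (((g⁻¹)ᵀ * gᵀ) * (S * (Multiplicative.toAdd a).1)).trace := by
                  simp only [mul_assoc]
              _ = (S * (Multiplicative.toAdd a).1).trace := by rw [h2, one_mul]
      · intro d
        apply hN _ d
        intro a ha
        simpa using ha
      · rw [hX]
        refine ⟨hS0, hS0ne, ?_⟩
        rw [hS0χ]
        exact hχ0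
    · intro S hS T hT h
      have h1 := (hX S).mp (Finset.mem_coe.mp hS)
      have h2 := (hX T).mp (Finset.mem_coe.mp hT)
      exact chi_inj hσ hsep ψ hψ' hfix h1.1 h2.1 h

end H44.LSBound
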