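import Cfsg.Agent.Lib.H44.LSBound

/-! A stronger form of `LSBound.exists_chars`. -/

set_option autoImplicit false

open Matrix H44.LSLinear H44.LSForms H44.LSWeights

namespace H44.LSBound

variable {F : Type*} [Field F] {ι : Type*} [Fintype ι] [DecidableEq ι]
variable {K : Type*} [Field K] {V : Type*} [AddCommGroup V] [Module K V] {G : Type*} [Group G]

theorem exists_forms [Fintype F] [IsAlgClosed K] (hp : (Fintype.card F : K) ≠ 0)
    {σ : F →+* F} (hσ : ∀ x, σ (σ x) = x)
    (hsep : ∀ D ∈ Hm ι σ, (∀ x, fm σ D x x = 0) → D = 0)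
    {m : ℕ} (hm : Fintype.card ι = m + 1)
    (P : Matrix ι ι F → Prop) (hPdet : ∀ g, P g → g.det ≠ 0)
    (hpair : ∀ (p x0 r f : ι → F) (c : F), c ≠ 0 → r ⬝ᵥ p = c → f ⬝ᵥ x0 = c →
      ∃ g : Matrix ι ι F, P g ∧ g *ᵥ p = x0 ∧ ∀ y, f ⬝ᵥ (g *ᵥ y) = r ⬝ᵥ y)
    (τ : G →* Module.End K V) (j : Multiplicative (Hm ι σ) →* G)
    (hlevi : ∀ g : Matrix ι ι F, P g → ∃ L : G, ∀ a : Hm ι σ,
      L * j (Multiplicative.ofAdd a) = j (Multiplicative.ofAdd
        ⟨(g⁻¹).map σ * a.1 * (g⁻¹)ᵀ, act_mem hσ _ _ a.2⟩) * L)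
    (b : Multiplicative (Hm ι σ)) (hb : τ (j b) ≠ 1)
    (N : ℕ) (hN : ∀ (s : Finset F) (d : F), (∀ a ∈ s, a * σ a = d) → s.card ≤ N) :
    ∃ (ψ : Multiplicative F →* Kˣ) (X : Finset (Matrix ι ι F)), ψ (Multiplicative.ofAdd 1) ≠ 1 ∧
      (∀ S ∈ X, S ∈ Hm ι σ ∧ S ≠ 0 ∧ wt (τ.comp j) (chi σ ψ S) ≠ ⊥) ∧
      Fintype.card F ^ (m + 1) - 1 ≤ X.card * N := by
  classical
  have hfix : ∀ D ∈ Hm ι σ, ∀ x, σ (fm σ D x x) = fm σ D x x := by
    intro D hD x
    rw [mem_Hm_iff] at hD
    simp only [fm, dotProduct, mulVec, map_sum, map_mul, hσ, hD, Finset.mul_sum]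
    rw [Finset.sum_comm]
    refine Finset.sum_congr rfl (fun i _ => Finset.sum_congr rfl (fun k _ => ?_))
    ring
  -- cardinality facts
  have hfinM : Finite (Matrix ι ι F) := by
    have : Finite (ι → ι → F) := inferInstance
    exact this
  have hfin : Finite (Multiplicative (Hm ι σ)) := inferInstance
  have hprime : Fact (ringChar F).Prime := ⟨CharP.char_is_prime F (ringChar F)⟩
  have hpK : ((ringChar F : ℕ) : K) ≠ 0 := ringChar_ne_zero hp
  have hexpA : Monoid.exponent (Multiplicative (Hm ι σ)) ∣ ringChar F := exponent_Hm σ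
  have hexpF : Monoid.exponent (Multiplicative F) ∣ ringChar F := by
    apply Monoid.exponent_dvd_of_forall_pow_eq_one
    intro a
    apply Multiplicative.toAdd.injective
    rw [toAdd_pow, toAdd_one, nsmul_eq_mul, CharP.cast_eq_zero, zero_mul]
  have hne : ∀ k : ℕ, k ∣ ringChar F → NeZero ((k : ℕ) : K) := by
    intro k hk
    refine ⟨fun h0 => hpK ?_⟩
    obtain ⟨c, hc⟩ := hk
    rw [hc, Nat.cast_mul, h0, zero_mul]
  have := hne _ hexpA
  have := hne _ hexpF
  have : HasEnoughRootsOfUnity K (Monoid.exponent (Multiplicative (Hm ι σ))) := inferInstance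
  have : HasEnoughRootsOfUnity K (Monoid.exponent (Multiplicative F)) := inferInstance
  have hcardA : (Nat.card (Multiplicative (Hm ι σ)) : K) ≠ 0 := card_Hm_ne_zero σ hp
  -- the additive character
  obtain ⟨ψ, hψ⟩ := CommGroup.exists_apply_ne_one_of_hasEnoughRootsOfUnity (Multiplicative F) K
    (a := Multiplicative.ofAdd (1 : F)) (by
      intro h
      exact one_ne_zero (Multiplicative.ofAdd.injective (h.trans ofAdd_zero.symm)))
  have hψ' : ∃ c, σ c = c ∧ ψ (Multiplicative.ofAdd c) ≠ 1 := ⟨1, map_one σ, hψ⟩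
  -- bijectivity of chi
  have hfinC : Finite (Multiplicative (Hm ι σ) →* Kˣ) := by
    have h := CommGroup.card_monoidHom_of_hasEnoughRootsOfUnity (Multiplicative (Hm ι σ)) K
    exact Nat.finite_of_card_ne_zero (by rw [h]; exact Nat.card_pos.ne')
  have hsurj : Function.Surjective (fun S : Hm ι σ => chi (K := K) σ ψ S.1) := by
    have h1 : Function.Injective (fun S : Hm ι σ => chi (K := K) σ ψ S.1) := by
      intro S T h
      exact Subtype.ext (chi_inj hσ hsep ψ hψ' hfix S.2 T.2 h)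
    have h2 : Nat.card (Hm ι σ) = Nat.card (Multiplicative (Hm ι σ) →* Kˣ) := by
      rw [CommGroup.card_monoidHom_of_hasEnoughRootsOfUnity]
      exact Nat.card_congr Multiplicative.ofAdd
    exact ((Nat.bijective_iff_injective_and_card _).mpr ⟨h1, h2⟩).2
  -- the weights
  obtain ⟨χ0, hχ0, hχ0b⟩ := exists_weight hcardA (τ.comp j) b hb
  obtain ⟨⟨S0, hS0⟩, hS0χ⟩ := hsurj χ0
  simp only at hS0χ
  have hS0ne : S0 ≠ 0 := by
    rintro rfl
    apply hχ0b
    rw [← hS0χ, chi_apply, zero_mul, trace_zero, ofAdd_zero, map_one]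
  have hx0 : ∃ x0, fm σ S0 x0 x0 ≠ 0 := by
    by_contra hcon
    push Not at hcon
    exact hS0ne (hsep S0 hS0 hcon)
  obtain ⟨x0, hx0⟩ := hx0
  let Xs : Set (Matrix ι ι F) := {S | S ∈ Hm ι σ ∧ S ≠ 0 ∧ wt (τ.comp j) (chi σ ψ S) ≠ ⊥}
  have hXf : Xs.Finite := Set.toFinite _
  let X : Finset (Matrix ι ι F) := hXf.toFinset
  have hX : ∀ S, S ∈ X ↔ S ∈ Hm ι σ ∧ S ≠ 0 ∧ wt (τ.comp j) (chi σ ψ S) ≠ ⊥ := by
    intro S; exact hXf.mem_toFinset
  refine ⟨ψ, X, hψ, fun S hS => (hX S).mp hS, ?_⟩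
  · refine count σ hm X ?_ P ?_ hpair N ?_ S0 ?_ x0 hx0
    · intro S hS x y h
      rw [hX] at hS
      have : fm σ S y x = σ (fm σ S x y) := by
        have h2 := mem_Hm_iff.mp hS.1
        simp only [fm, dotProduct, mulVec, map_sum, map_mul, hσ, h2, Finset.mul_sum]
        rw [Finset.sum_comm]
        refine Finset.sum_congr rfl (fun i _ => Finset.sum_congr rfl (fun k _ => ?_))
        ring
      rw [this, h, map_zero]
    · intro S hS g hg
      rw [hX] at hS ⊢
      have hdet := hPdet g hg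
      have hunit : IsUnit g.det := isUnit_iff_ne_zero.mpr hdet
      have hgi : g * g⁻¹ = 1 := mul_nonsing_inv g hunit
      have hgi2 : g⁻¹ * g = 1 := nonsing_inv_mul g hunit
      refine ⟨cong_mem hσ g S hS.1, ?_, ?_⟩
      · intro h0
        apply hS.2.1
        have h1 : (g⁻¹)ᵀ * (cong σ g S) * (g⁻¹).map σ = S := by
          rw [cong]
          have h2 : (g⁻¹)ᵀ * gᵀ = 1 := by rw [← transpose_mul, hgi, transpose_one]
          have h3 : g.map σ * (g⁻¹).map σ = 1 := by
            rw [← Matrix.map_mul, hgi, Matrix.map_one _ (map_zero σ) (map_one σ)]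
          calc (g⁻¹)ᵀ * (gᵀ * S * g.map σ) * (g⁻¹).map σ
              = ((g⁻¹)ᵀ * gᵀ) * S * (g.map σ * (g⁻¹).map σ) := by
                simp only [mul_assoc]
            _ = S := by rw [h2, h3, one_mul, mul_one]
        rw [h0, mul_zero, zero_mul] at h1
        exact h1.symm
      · obtain ⟨L, hL⟩ := hlevi g hg
        have hLinj : Function.Injective (τ L : V →ₗ[K] V) := by
          intro v w h
          have h1 : τ L⁻¹ (τ L v) = τ L⁻¹ (τ L w) := by rw [h]
          rw [← Module.End.mul_apply, ← Module.End.mul_apply, ← map_mul, inv_mul_cancel,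
            map_one] at h1
          exact h1
        refine wt_map_ne_bot (τ.comp j) (τ L) hLinj
          (fun a => Multiplicative.ofAdd ⟨(g⁻¹).map σ * (Multiplicative.toAdd a).1 * (g⁻¹)ᵀ,
            act_mem hσ _ _ (Multiplicative.toAdd a).2⟩) ?_ ?_ (chi σ ψ S) _ ?_ hS.2.2
        · intro a v
          rw [MonoidHom.comp_apply, MonoidHom.comp_apply, ← Module.End.mul_apply,
            ← Module.End.mul_apply, ← map_mul, ← map_mul]
          have := hL (Multiplicative.toAdd a)
          rw [ofAdd_toAdd] at this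
          rw [this]
        · intro a
          refine ⟨Multiplicative.ofAdd ⟨g.map σ * (Multiplicative.toAdd a).1 * gᵀ,
            act_mem hσ _ _ (Multiplicative.toAdd a).2⟩, ?_⟩
          apply Multiplicative.toAdd.injective
          apply Subtype.ext
          simp only [toAdd_ofAdd]
          have h2 : gᵀ * (g⁻¹)ᵀ = 1 := by rw [← transpose_mul, hgi2, transpose_one]
          have h3 : (g⁻¹).map σ * g.map σ = 1 := by
            rw [← Matrix.map_mul, hgi2, Matrix.map_one _ (map_zero σ) (map_one σ)]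
          calc (g⁻¹).map σ * (g.map σ * (Multiplicative.toAdd a).1 * gᵀ) * (g⁻¹)ᵀ
              = ((g⁻¹).map σ * g.map σ) * (Multiplicative.toAdd a).1 * (gᵀ * (g⁻¹)ᵀ) := by
                simp only [mul_assoc]
            _ = (Multiplicative.toAdd a).1 := by rw [h2, h3, one_mul, mul_one]
        · intro a
          rw [chi_apply, chi_apply, toAdd_ofAdd]
          congr 2
          simp only
          have h2 : (g⁻¹)ᵀ * gᵀ = 1 := by rw [← transpose_mul, hgi, transpose_one]
          have h3 : g.map σ * (g⁻¹).map σ = 1 := by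
            rw [← Matrix.map_mul, hgi, Matrix.map_one _ (map_zero σ) (map_one σ)]
          calc (cong σ g S * ((g⁻¹).map σ * (Multiplicative.toAdd a).1 * (g⁻¹)ᵀ)).trace
              = ((gᵀ * S * (g.map σ * (g⁻¹).map σ) * (Multiplicative.toAdd a).1) *
                  (g⁻¹)ᵀ).trace := by
                rw [cong]; simp only [mul_assoc]
            _ = ((g⁻¹)ᵀ * (gᵀ * S * (Multiplicative.toAdd a).1)).trace := by
                rw [h3, mul_one, trace_mul_comm]
            _ = (((g⁻¹)ᵀ * gᵀ) * (S * (Multiplicative.toAdd a).1)).trace := by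
                simp only [mul_assoc]
            _ = (S * (Multiplicative.toAdd a).1).trace := by rw [h2, one_mul]
    · intro d
      apply hN _ d
      intro a ha
      simpa using ha
    · rw [hX]
      refine ⟨hS0, hS0ne, ?_⟩
      rw [hS0χ]
      exact hχ0

end H44.LSBound
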