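import Cfsg.Agent.Lib.H44.LSVec2

/-! Dimension bound for a weight space of a central subgroup of a Heisenberg-like group. -/

set_option autoImplicit false

open Matrix H44.LSWeights H44.LSBound H44.LSVec

namespace H44.LSHeis

variable {K : Type*} [Field K] {V : Type*} [AddCommGroup V] [Module K V] {G : Type*} [Group G]
variable {A : Type*} [CommGroup A]

theorem centr_comm (j : A →* G) (g : Subgroup.centralizer (Set.range j)) (a : A) :
    g.1 * j a = j a * g.1 := by
  have := Subgroup.mem_centralizer_iff.mp g.2 (j a) ⟨a, rfl⟩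
  exact this.symm

/-- the action of the centralizer on a weight space -/
def resW (τ : G →* Module.End K V) (j : A →* G) (χ : A →* Kˣ) :
    Subgroup.centralizer (Set.range j) →* Module.End K (wt (τ.comp j) χ) where
  toFun g := (τ g.1).restrict (fun v hv => by
    intro a
    rw [MonoidHom.comp_apply, ← Module.End.mul_apply, ← map_mul, ← centr_comm, map_mul,
      Module.End.mul_apply, ← map_smul]
    congr 1
    exact hv a)
  map_one' := by ext; simp
  map_mul' x y := by
    apply LinearMap.ext
    intro w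
    apply Subtype.ext
    change τ (x * y).1 w.1 = τ x.1 (τ y.1 w.1)
    rw [Subgroup.coe_mul, map_mul, Module.End.mul_apply]

theorem resW_coe (τ : G →* Module.End K V) (j : A →* G) (χ : A →* Kˣ)
    (g : Subgroup.centralizer (Set.range j)) (w : wt (τ.comp j) χ) :
    (resW τ j χ g w : V) = τ g.1 w.1 := rfl

/-- an element of the abelian group as an element of its centralizer -/
def jc (j : A →* G) (a : A) : Subgroup.centralizer (Set.range j) :=
  ⟨j a, by
    rw [Subgroup.mem_centralizer_iff]
    rintro _ ⟨b, rfl⟩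
    rw [← map_mul, mul_comm, map_mul]⟩

theorem resW_jc (τ : G →* Module.End K V) (j : A →* G) (χ : A →* Kˣ) (a : A) :
    resW τ j χ (jc j a) = ((χ a : Kˣ) : K) • 1 := by
  apply LinearMap.ext
  intro w
  apply Subtype.ext
  rw [resW_coe, LinearMap.smul_apply, Module.End.one_apply, Submodule.coe_smul]
  exact w.2 a

/-- the conjugation action -/
def conjW (τ : G →* Module.End K V) (j : A →* G) (χ : A →* Kˣ) :
    Subgroup.centralizer (Set.range j) →* Module.End K (Module.End K (wt (τ.comp j) χ)) where
  toFun g := cj (resW τ j χ g) (resW τ j χ g⁻¹)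
  map_one' := by
    apply LinearMap.ext
    intro X
    rw [cj_apply, inv_one, map_one, one_mul, mul_one, Module.End.one_apply]
  map_mul' g h := by
    apply LinearMap.ext
    intro X
    rw [Module.End.mul_apply, cj_apply, cj_apply, cj_apply, _root_.mul_inv_rev, map_mul, map_mul]
    simp only [mul_assoc]

theorem conjW_apply (τ : G →* Module.End K V) (j : A →* G) (χ : A →* Kˣ)
    (g : Subgroup.centralizer (Set.range j)) (X : Module.End K (wt (τ.comp j) χ)) :
    conjW τ j χ g X = resW τ j χ g * X * resW τ j χ g⁻¹ := rfl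

theorem conjW_jc (τ : G →* Module.End K V) (j : A →* G) (χ : A →* Kˣ) (a : A) :
    conjW τ j χ (jc j a) = 1 := by
  apply LinearMap.ext
  intro X
  have h1 : (jc j a)⁻¹ = jc j a⁻¹ := by
    apply Subtype.ext
    change (j a)⁻¹ = j a⁻¹
    rw [map_inv]
  rw [conjW_apply, h1, resW_jc, resW_jc, Module.End.one_apply, smul_mul_assoc, one_mul,
    mul_smul_comm, mul_one, smul_smul, map_inv, Units.inv_mul, one_smul]

/-- The Heisenberg bound. -/
theorem heis [FiniteDimensional K V] (τ : G →* Module.End K V) (j : A →* G) (χ : A →* Kˣ)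
    (hW : wt (τ.comp j) χ ≠ ⊥) {B : Type*} [CommGroup B] [Finite B]
    (hB : (Nat.card B : K) ≠ 0) (s : B → G) (hs : ∀ b a, s b * j a = j a * s b)
    (hs1 : ∀ b b', ∃ a, s (b * b') = s b * s b' * j a)
    (θ : B → (B →* Kˣ)) (hcomm : ∀ b i, ∃ a, s b * s i = j a * (s i * s b) ∧ χ a = θ i b)
    (N : ℕ) (hθ : ∀ χ', Nat.card {i : B // θ i = χ'} ≤ N) :
    Nat.card B ≤ (Module.finrank K (wt (τ.comp j) χ)) ^ 2 * N := by
  let sc : B → Subgroup.centralizer (Set.range j) := fun b => ⟨s b, by
    rw [Subgroup.mem_centralizer_iff]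
    rintro _ ⟨a, rfl⟩
    exact (hs b a).symm⟩
  let C : B →* Module.End K (Module.End K (wt (τ.comp j) χ)) :=
    { toFun := fun b => conjW τ j χ (sc b)
      map_one' := by
        obtain ⟨a, ha⟩ := hs1 1 1
        rw [one_mul] at ha
        have h1 : s 1 = (j a)⁻¹ := by
          have : s 1 * (s 1 * j a) = s 1 * 1 := by rw [← mul_assoc, ← ha, mul_one]
          exact eq_inv_of_mul_eq_one_left (mul_left_cancel this)
        have h2 : sc 1 = (jc j a)⁻¹ := Subtype.ext h1
        rw [h2]
        have h3 : (jc j a)⁻¹ = jc j a⁻¹ := by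
          apply Subtype.ext
          change (j a)⁻¹ = j a⁻¹
          rw [map_inv]
        rw [h3, conjW_jc]
      map_mul' := fun b b' => by
        obtain ⟨a, ha⟩ := hs1 b b'
        have h1 : sc (b * b') = sc b * sc b' * jc j a := Subtype.ext ha
        rw [h1, map_mul, map_mul, conjW_jc, mul_one] }
  have hCT : ∀ b i, C b (resW τ j χ (sc i)) = ((θ i b : Kˣ) : K) • resW τ j χ (sc i) := by
    intro b i
    obtain ⟨a, ha, hχ⟩ := hcomm b i
    have h1 : sc b * sc i * (sc b)⁻¹ = jc j a * sc i := by
      apply Subtype.ext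
      change s b * s i * (s b)⁻¹ = j a * s i
      rw [ha]; group
    change conjW τ j χ (sc b) (resW τ j χ (sc i)) = _
    rw [conjW_apply, ← map_mul, ← map_mul, h1, map_mul, resW_jc, smul_mul_assoc, one_mul, hχ]
  obtain ⟨v, hv, hv0⟩ := (Submodule.ne_bot_iff _).mp hW
  refine heis_bound hB _ C (fun i => resW τ j χ (sc i)) ?_ θ hCT _ N le_rfl hθ
  intro i h0
  apply hv0
  have h1 : resW τ j χ ((sc i)⁻¹ * sc i) ⟨v, hv⟩ = 0 := by
    rw [map_mul, Module.End.mul_apply, h0, LinearMap.zero_apply, map_zero]
  rw [inv_mul_cancel, map_one, Module.End.one_apply] at h1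
  exact congrArg Subtype.val h1

end H44.LSHeis
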