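import Cfsg.Agent.Lib.H44.LSLinear

/-! Counting quadratic forms in characteristic two. -/

set_option autoImplicit false

open Matrix H44.LSLinear

namespace H44.LSQuad

variable {F : Type*} [Field F] {l : Type*} [Fintype l]

/-- `Q` is a quadratic form -/
def IsQ (Q : (l → F) → F) : Prop := ∃ U : Matrix l l F, ∀ x, Q x = x ⬝ᵥ (U *ᵥ x)

/-- polar form -/
def Bq (Q : (l → F) → F) (x y : l → F) : F := Q (x + y) - Q x - Q y

omit [Fintype l] in
theorem Q_add (Q : (l → F) → F) (x y : l → F) : Q (x + y) = Q x + Q y + Bq Q x y := by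
  rw [Bq]; ring

omit [Fintype l] in
theorem Bq_comm (Q : (l → F) → F) (x y : l → F) : Bq Q x y = Bq Q y x := by
  rw [Bq, Bq, add_comm x y]; ring

theorem Q_smul {Q : (l → F) → F} (h : IsQ Q) (t : F) (x : l → F) : Q (t • x) = t ^ 2 * Q x := by
  obtain ⟨U, hU⟩ := h
  rw [hU, hU, mulVec_smul, smul_dotProduct, dotProduct_smul, smul_eq_mul, smul_eq_mul]
  ring

theorem exists_rep {Q : (l → F) → F} (h : IsQ Q) (x : l → F) :
    ∃ w : l → F, ∀ y, Bq Q x y = w ⬝ᵥ y := by
  obtain ⟨U, hU⟩ := h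
  refine ⟨x ᵥ* U + U *ᵥ x, fun y => ?_⟩
  rw [Bq, hU, hU, hU, mulVec_add, add_dotProduct, dotProduct_add, dotProduct_add, add_dotProduct,
    dotProduct_mulVec x U y, dotProduct_comm y (U *ᵥ x)]
  ring

theorem Bq_add_right {Q : (l → F) → F} (h : IsQ Q) (x y y' : l → F) :
    Bq Q x (y + y') = Bq Q x y + Bq Q x y' := by
  obtain ⟨w, hw⟩ := exists_rep h x
  rw [hw, hw, hw, dotProduct_add]

theorem Bq_smul_right {Q : (l → F) → F} (h : IsQ Q) (x : l → F) (t : F) (y : l → F) :
    Bq Q x (t • y) = t * Bq Q x y := by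
  obtain ⟨w, hw⟩ := exists_rep h x
  rw [hw, hw, dotProduct_smul, smul_eq_mul]

theorem Bq_add_left {Q : (l → F) → F} (h : IsQ Q) (x x' y : l → F) :
    Bq Q (x + x') y = Bq Q x y + Bq Q x' y := by
  rw [Bq_comm, Bq_add_right h, Bq_comm Q y x, Bq_comm Q y x']

theorem Bq_smul_left {Q : (l → F) → F} (h : IsQ Q) (t : F) (x : l → F) (y : l → F) :
    Bq Q (t • x) y = t * Bq Q x y := by
  rw [Bq_comm, Bq_smul_right h, Bq_comm]

theorem Bq_self [CharP F 2] {Q : (l → F) → F} (h : IsQ Q) (x : l → F) : Bq Q x x = 0 := by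
  rw [Bq, ← two_smul F x, Q_smul h]
  have : (2 : F) = 0 := CharTwo.two_eq_zero
  rw [this]
  linear_combination (-Q x) * this

theorem isQ_comp {Q : (l → F) → F} (h : IsQ Q) (g : Matrix l l F) :
    IsQ (fun x => Q (g *ᵥ x)) := by
  obtain ⟨U, hU⟩ := h
  refine ⟨gᵀ * U * g, fun x => ?_⟩
  change Q (g *ᵥ x) = _
  rw [hU, ← mulVec_mulVec, ← mulVec_mulVec, dotProduct_mulVec x gᵀ, vecMul_transpose]

theorem Bq_comp (Q : (l → F) → F) (g : Matrix l l F) (x y : l → F) :
    Bq (fun z => Q (g *ᵥ z)) x y = Bq Q (g *ᵥ x) (g *ᵥ y) := by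
  rw [Bq, Bq, mulVec_add]

/-! ### transitivity on independent pairs -/

theorem exists_dot_zero_one_ne [DecidableEq l] (x0 p y : l → F) (hp : p ∉ Submodule.span F {x0})
    (hy : y ∉ Submodule.span F {x0}) :
    ∃ w : l → F, w ⬝ᵥ x0 = 0 ∧ w ⬝ᵥ p = 1 ∧ w ⬝ᵥ y ≠ 0 := by
  obtain ⟨w1, h0, h1⟩ := exists_dot_zero_one x0 p hp
  obtain ⟨w2, h0', h2⟩ := exists_dot_zero_one x0 y hy
  by_cases h3 : w1 ⬝ᵥ y = 0
  · by_cases h4 : w2 ⬝ᵥ p = 0
    · refine ⟨w1 + w2, ?_, ?_, ?_⟩
      · rw [add_dotProduct, h0, h0', add_zero]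
      · rw [add_dotProduct, h1, h4, add_zero]
      · rw [add_dotProduct, h3, h2, zero_add]; exact one_ne_zero
    · refine ⟨(w2 ⬝ᵥ p)⁻¹ • w2, ?_, ?_, ?_⟩
      · rw [smul_dotProduct, h0', smul_zero]
      · rw [smul_dotProduct, smul_eq_mul, inv_mul_cancel₀ h4]
      · rw [smul_dotProduct, h2, smul_eq_mul, mul_one]; exact inv_ne_zero h4
  · exact ⟨w1, h0, h1, h3⟩

theorem exists_gl_indep [DecidableEq l] (x y x0 y0 : l → F) (hx : x ≠ 0)
    (hy : y ∉ Submodule.span F {x}) (hx0 : x0 ≠ 0) (hy0 : y0 ∉ Submodule.span F {x0}) :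
    ∃ g : Matrix l l F, g.det ≠ 0 ∧ g *ᵥ x = x0 ∧ g *ᵥ y = y0 := by
  obtain ⟨g1, h1, h2⟩ := exists_gl_vec x x0 hx hx0
  have hunit : IsUnit g1.det := isUnit_iff_ne_zero.mpr h1
  have hp : g1 *ᵥ y ∉ Submodule.span F {x0} := by
    intro h
    apply hy
    rw [Submodule.mem_span_singleton] at h ⊢
    obtain ⟨a, ha⟩ := h
    refine ⟨a, ?_⟩
    have h3 : g1⁻¹ *ᵥ (g1 *ᵥ y) = g1⁻¹ *ᵥ (a • x0) := by rw [ha]
    rw [mulVec_mulVec, nonsing_inv_mul g1 hunit, one_mulVec, mulVec_smul, ← h2, mulVec_mulVec,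
      nonsing_inv_mul g1 hunit, one_mulVec] at h3
    exact h3.symm
  obtain ⟨w, hw0, hw1, hw2⟩ := exists_dot_zero_one_ne x0 (g1 *ᵥ y) y0 hp hy0
  refine ⟨dil (y0 - g1 *ᵥ y) w * g1, ?_, ?_, ?_⟩
  · rw [det_mul, det_dil, dotProduct_sub, hw1]
    refine mul_ne_zero ?_ h1
    simpa using hw2
  · rw [← mulVec_mulVec, h2, dil_mulVec, hw0, zero_smul, add_zero]
  · rw [← mulVec_mulVec, dil_mulVec, hw1, one_smul]; abel

/-! ### sizes -/

variable [Fintype F] [DecidableEq F] [DecidableEq l]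

/-- the number of vectors killed by two functionals -/
theorem card_two_ge {m : ℕ} (hm : Fintype.card l = m + 2) (a b : l → F) :
    Fintype.card F ^ m ≤ (Finset.univ.filter (fun z : l → F => a ⬝ᵥ z = 0 ∧ b ⬝ᵥ z = 0)).card := by
  -- all fibres of `z ↦ (a ⬝ z, b ⬝ z)` have at most the size of the kernel
  set S := Finset.univ.filter (fun z : l → F => a ⬝ᵥ z = 0 ∧ b ⬝ᵥ z = 0) with hS
  have h1 : (Finset.univ : Finset (l → F)).card ≤
      S.card * ((Finset.univ : Finset (l → F)).image (fun z => (a ⬝ᵥ z, b ⬝ᵥ z))).card := by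
    apply Finset.card_le_mul_card_image
    intro c hc
    rw [Finset.mem_image] at hc
    obtain ⟨z0, _, hz0⟩ := hc
    refine Finset.card_le_card_of_injOn (fun z => z - z0) ?_ ?_
    · intro z hz
      simp only [Finset.coe_filter, Finset.mem_univ, true_and, Set.mem_ofPred_eq] at hz
      simp only [hS, Finset.coe_filter, Finset.mem_univ, true_and, Set.mem_ofPred_eq]
      rw [← hz0, Prod.mk.injEq] at hz
      rw [dotProduct_sub, dotProduct_sub, hz.1, hz.2, sub_self, sub_self]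
      exact ⟨rfl, rfl⟩
    · intro z _ z' _ h
      exact sub_left_injective h
  have h2 : ((Finset.univ : Finset (l → F)).image (fun z => (a ⬝ᵥ z, b ⬝ᵥ z))).card ≤
      Fintype.card F * Fintype.card F := by
    refine (Finset.card_le_univ _).trans ?_
    rw [Fintype.card_prod]
  rw [Finset.card_univ, Fintype.card_fun, hm] at h1
  have h3 : Fintype.card F ^ (m + 2) ≤ S.card * (Fintype.card F * Fintype.card F) :=
    h1.trans (Nat.mul_le_mul_left _ h2)
  have h4 : 0 < Fintype.card F * Fintype.card F := Nat.mul_pos Fintype.card_pos Fintype.card_pos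
  apply Nat.le_of_mul_le_mul_right _ h4
  calc Fintype.card F ^ m * (Fintype.card F * Fintype.card F) = Fintype.card F ^ (m + 2) := by ring
    _ ≤ _ := h3

/-- independent pairs -/
def pairs (F l : Type*) [Field F] [Fintype l] [Fintype F] [DecidableEq F] [DecidableEq l] :
    Finset ((l → F) × (l → F)) :=
  Finset.univ.filter (fun p => p.1 ≠ 0 ∧ ∀ t : F, p.2 ≠ t • p.1)

theorem mem_pairs {p : (l → F) × (l → F)} :
    p ∈ pairs F l ↔ p.1 ≠ 0 ∧ p.2 ∉ Submodule.span F {p.1} := by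
  rw [pairs, Finset.mem_filter, Submodule.mem_span_singleton]
  simp only [Finset.mem_univ, true_and, not_exists, ne_eq, eq_comm]

theorem card_pairs {m : ℕ} (hm : Fintype.card l = m + 2) : (pairs F l).card =
    (Fintype.card F ^ (m + 2) - 1) * (Fintype.card F ^ (m + 2) - Fintype.card F) := by
  have h1 : (pairs F l).card = ∑ x ∈ (Finset.univ : Finset (l → F)).erase 0,
      ((pairs F l).filter (fun p => p.1 = x)).card := by
    apply Finset.card_eq_sum_card_fiberwise
    intro p hp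
    have := (mem_pairs.mp (Finset.mem_coe.mp hp)).1
    simpa using this
  have h2 : ∀ x ∈ (Finset.univ : Finset (l → F)).erase 0,
      ((pairs F l).filter (fun p => p.1 = x)).card =
        Fintype.card F ^ (m + 2) - Fintype.card F := by
    intro x hx
    have hx0 : x ≠ 0 := Finset.ne_of_mem_erase hx
    have h3 : ((pairs F l).filter (fun p => p.1 = x)).card =
        ((Finset.univ : Finset (l → F)) \ (Finset.univ : Finset F).image (fun t => t • x)).card := by
      refine Finset.card_bij (fun p _ => p.2) ?_ ?_ ?_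
      · intro p hp
        rw [Finset.mem_filter, pairs, Finset.mem_filter] at hp
        rw [Finset.mem_sdiff, Finset.mem_image]
        refine ⟨Finset.mem_univ _, ?_⟩
        rintro ⟨t, _, ht⟩
        apply hp.1.2.2 t
        rw [hp.2, ht]
      · intro p hp p' hp' h
        rw [Finset.mem_filter] at hp hp'
        exact Prod.ext (hp.2.trans hp'.2.symm) h
      · intro y hy
        rw [Finset.mem_sdiff, Finset.mem_image] at hy
        refine ⟨(x, y), ?_, rfl⟩
        rw [Finset.mem_filter, pairs, Finset.mem_filter]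
        refine ⟨⟨Finset.mem_univ _, hx0, ?_⟩, rfl⟩
        intro t ht
        exact hy.2 ⟨t, Finset.mem_univ _, ht.symm⟩
    rw [h3, Finset.card_sdiff_of_subset (Finset.subset_univ _), Finset.card_univ, Fintype.card_fun,
      hm, Finset.card_image_of_injective, Finset.card_univ]
    intro s t h
    exact smul_left_injective F hx0 h
  rw [h1, Finset.sum_congr rfl h2, Finset.sum_const, smul_eq_mul,
    Finset.card_erase_of_mem (Finset.mem_univ _), Finset.card_univ, Fintype.card_fun, hm]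

end H44.LSQuad
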