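import Cfsg.Agent.Lib.H44.LSQuad

/-! Counting quadratic forms in characteristic two: a set of quadratic forms closed under the general
linear group and containing a form with nonzero polar form is large. -/

set_option autoImplicit false

open Matrix H44.LSLinear

namespace H44.LSQuad

variable {F : Type*} [Field F] {l : Type*} [Fintype l]
variable [Fintype F] [DecidableEq F] [DecidableEq l]

/-- the lower bound: every independent pair is related to many forms -/
theorem many_forms {m : ℕ} (hm : Fintype.card l = m + 2) (O : Finset ((l → F) → F))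
    (hclosed : ∀ Q ∈ O, ∀ g : Matrix l l F, g.det ≠ 0 → (fun x => Q (g *ᵥ x)) ∈ O)
    (Q0 : (l → F) → F) (hQ0 : Q0 ∈ O) (hq : IsQ Q0) (x0 y0 : l → F) (hγ : Bq Q0 x0 y0 ≠ 0)
    (hself : ∀ x, Bq Q0 x x = 0)
    (p : (l → F) × (l → F)) (hp : p ∈ pairs F l) :
    Fintype.card F ^ m * Fintype.card F ^ m ≤ (O.filter (fun Q => Q p.1 = Q0 x0 ∧ Q p.2 = Q0 y0 ∧
      Bq Q p.1 p.2 = Bq Q0 x0 y0)).card := by
  obtain ⟨x, y⟩ := p
  rw [mem_pairs] at hp
  simp only at hp ⊢
  have hx0 : x0 ≠ 0 := by
    rintro rfl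
    apply hγ
    rw [Bq, zero_add]
    have : Q0 0 = 0 := by
      have := Q_smul hq 0 0
      rwa [smul_zero, zero_pow two_ne_zero, zero_mul] at this
    rw [this]; ring
  have hy0 : y0 ∉ Submodule.span F {x0} := by
    intro h
    rw [Submodule.mem_span_singleton] at h
    obtain ⟨a, rfl⟩ := h
    apply hγ
    rw [Bq_smul_right hq, hself, mul_zero]
  obtain ⟨g, hg, hgx, hgy⟩ := exists_gl_indep x y x0 y0 hp.1 hp.2 hx0 hy0
  set S := Finset.univ.filter (fun z : l → F => x ⬝ᵥ z = 0 ∧ y ⬝ᵥ z = 0) with hS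
  have hcard := card_two_ge hm x y
  -- the unipotent elements
  let h : (l → F) × (l → F) → Matrix l l F := fun f => 1 + vecMulVec x f.1 + vecMulVec y f.2
  have hh : ∀ f : (l → F) × (l → F), ∀ z, h f *ᵥ z = z + (f.1 ⬝ᵥ z) • x + (f.2 ⬝ᵥ z) • y := by
    intro f z
    simp only [h]
    rw [add_mulVec, add_mulVec, one_mulVec, vecMulVec_mulVec, vecMulVec_mulVec]
    congr 1
    · congr 1
      ext i; simp [mul_comm]
    · ext i; simp [mul_comm]
  have hmemS : ∀ f, f ∈ S ↔ x ⬝ᵥ f = 0 ∧ y ⬝ᵥ f = 0 := by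
    intro f; rw [hS, Finset.mem_filter]; simp
  have hdet : ∀ f ∈ S ×ˢ S, (h f).det ≠ 0 := by
    intro f hf
    rw [Finset.mem_product, hmemS, hmemS] at hf
    obtain ⟨⟨h1, h2⟩, h3, h4⟩ := hf
    have hinv : (h f) * (h (-f.1, -f.2)) = 1 := by
      apply Matrix.ext_of_mulVec_single
      intro i
      rw [← mulVec_mulVec, hh, hh, one_mulVec]
      simp only [neg_dotProduct, dotProduct_add, dotProduct_smul, smul_eq_mul]
      rw [dotProduct_comm f.1 x, dotProduct_comm f.1 y, dotProduct_comm f.2 x,
        dotProduct_comm f.2 y, h1, h2, h3, h4]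
      simp only [mul_zero, add_zero, neg_smul]
      abel
    intro h0
    have h5 := congrArg Matrix.det hinv
    rw [det_mul, h0, zero_mul, det_one] at h5
    exact zero_ne_one h5
  calc Fintype.card F ^ m * Fintype.card F ^ m ≤ S.card * S.card := Nat.mul_le_mul hcard hcard
    _ = (S ×ˢ S).card := (Finset.card_product _ _).symm
    _ ≤ _ := by
      refine Finset.card_le_card_of_injOn (fun f => fun z => Q0 ((g * h f) *ᵥ z)) ?_ ?_
      · intro f hf
        rw [Finset.mem_coe] at hf
        have hf' := hf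
        rw [Finset.mem_product, hmemS, hmemS] at hf
        obtain ⟨⟨h1, h2⟩, h3, h4⟩ := hf
        simp only [Finset.coe_filter, Set.mem_ofPred_eq]
        have hfx : (g * h f) *ᵥ x = x0 := by
          rw [← mulVec_mulVec, hh, dotProduct_comm, h1, dotProduct_comm, h3, zero_smul, zero_smul,
            add_zero, add_zero, hgx]
        have hfy : (g * h f) *ᵥ y = y0 := by
          rw [← mulVec_mulVec, hh, dotProduct_comm, h2, dotProduct_comm, h4, zero_smul, zero_smul,
            add_zero, add_zero, hgy]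
        refine ⟨hclosed Q0 hQ0 _ ?_, ?_, ?_, ?_⟩
        · rw [det_mul]; exact mul_ne_zero hg (hdet f hf')
        · rw [hfx]
        · rw [hfy]
        · rw [Bq_comp, hfx, hfy]
      · intro f hf f' hf' heq
        rw [Finset.mem_coe, Finset.mem_product, hmemS, hmemS] at hf hf'
        obtain ⟨⟨h1, h2⟩, h3, h4⟩ := hf
        obtain ⟨⟨h1', h2'⟩, h3', h4'⟩ := hf'
        simp only at heq
        have hpol : ∀ u v, Bq Q0 ((g * h f) *ᵥ u) ((g * h f) *ᵥ v) =
            Bq Q0 ((g * h f') *ᵥ u) ((g * h f') *ᵥ v) := by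
          intro u v
          rw [← Bq_comp, ← Bq_comp, heq]
        have key1 : ∀ z, f.2 ⬝ᵥ z = f'.2 ⬝ᵥ z := by
          intro z
          have h5 := hpol x z
          simp only [← mulVec_mulVec, hh] at h5
          rw [dotProduct_comm f.1 x, dotProduct_comm f.2 x, dotProduct_comm f'.1 x,
            dotProduct_comm f'.2 x, h1, h3, h1', h3'] at h5
          simp only [zero_smul, add_zero, mulVec_add, mulVec_smul, hgx, hgy, Bq_add_right hq,
            Bq_smul_right hq, hself, mul_zero] at h5
          have h6 : (f.2 ⬝ᵥ z - f'.2 ⬝ᵥ z) * Bq Q0 x0 y0 = 0 := by linear_combination h5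
          exact sub_eq_zero.mp ((mul_eq_zero.mp h6).resolve_right hγ)
        have key2 : ∀ z, f.1 ⬝ᵥ z = f'.1 ⬝ᵥ z := by
          intro z
          have h5 := hpol y z
          simp only [← mulVec_mulVec, hh] at h5
          rw [dotProduct_comm f.1 y, dotProduct_comm f.2 y, dotProduct_comm f'.1 y,
            dotProduct_comm f'.2 y, h2, h4, h2', h4'] at h5
          simp only [zero_smul, add_zero, mulVec_add, mulVec_smul, hgx, hgy, Bq_add_right hq,
            Bq_smul_right hq, hself, mul_zero] at h5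
          rw [Bq_comm Q0 y0 x0] at h5
          have h6 : (f.1 ⬝ᵥ z - f'.1 ⬝ᵥ z) * Bq Q0 x0 y0 = 0 := by linear_combination h5
          exact sub_eq_zero.mp ((mul_eq_zero.mp h6).resolve_right hγ)
        have hext : ∀ a b : l → F, (∀ z, a ⬝ᵥ z = b ⬝ᵥ z) → a = b := by
          intro a b hab
          ext i
          have := hab (Pi.single i 1)
          simpa using this
        exact Prod.ext (hext _ _ key2) (hext _ _ key1)

end H44.LSQuad
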