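import Cfsg.Agent.Lib.H44.LSQuadCount

/-! Counting quadratic forms in characteristic two: upper bounds for the number of pairs with
prescribed values, and the final inequality. -/

set_option autoImplicit false

open Matrix H44.LSLinear

namespace H44.LSQuad

variable {F : Type*} [Field F] {l : Type*} [Fintype l]
variable [Fintype F] [DecidableEq F] [DecidableEq l] [CharP F 2]

omit [Fintype F] [DecidableEq F] [DecidableEq l] [CharP F 2] in
theorem rep_ne_zero {Q : (l → F) → F} {x y w : l → F} (hw : ∀ y, Bq Q x y = w ⬝ᵥ y)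
    (h : Bq Q x y ≠ 0) : w ≠ 0 := by
  rintro rfl
  rw [hw, zero_dotProduct] at h
  exact h rfl

/-- the number of isotropic vectors -/
theorem card_iso_le {m : ℕ} (hm : Fintype.card l = m + 2) {Q : (l → F) → F} (hq : IsQ Q)
    (u v : l → F) (hu : Q u = 0) (huv : Bq Q u v ≠ 0) :
    (Finset.univ.filter (fun x : l → F => Q x = 0)).card ≤ 2 * Fintype.card F ^ (m + 1) := by
  obtain ⟨w, hw⟩ := exists_rep hq u
  have hw0 : w ≠ 0 := rep_ne_zero hw huv
  have hu0 : u ≠ 0 := by
    rintro rfl
    apply huv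
    have := Bq_smul_left hq 0 0 v
    rw [zero_smul, zero_mul] at this
    exact this
  obtain ⟨f, hf⟩ := exists_dot_one u hu0
  have hf0 : f ≠ 0 := by
    rintro rfl
    rw [zero_dotProduct] at hf
    exact zero_ne_one hf
  have h1 : (Finset.univ.filter (fun x : l → F => Q x = 0)) ⊆
      (Finset.univ.filter (fun x : l → F => w ⬝ᵥ x = 0)) ∪
      (Finset.univ.filter (fun x : l → F => Q x = 0 ∧ w ⬝ᵥ x ≠ 0)) := by
    intro x hx
    simp only [Finset.mem_union, Finset.mem_filter, Finset.mem_univ, true_and] at hx ⊢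
    by_cases h : w ⬝ᵥ x = 0
    · exact Or.inl h
    · exact Or.inr ⟨hx, h⟩
  have h2 : (Finset.univ.filter (fun x : l → F => Q x = 0 ∧ w ⬝ᵥ x ≠ 0)).card ≤
      (Finset.univ.filter (fun x : l → F => f ⬝ᵥ x = 0)).card := by
    refine Finset.card_le_card_of_injOn (fun x => x - (f ⬝ᵥ x) • u) ?_ ?_
    · intro x _
      simp only [Finset.coe_filter, Finset.mem_univ, true_and, Set.mem_ofPred_eq]
      rw [dotProduct_sub, dotProduct_smul, hf, smul_eq_mul, mul_one, sub_self]
    · intro x hx x' hx' h
      simp only [Finset.coe_filter, Finset.mem_univ, true_and, Set.mem_ofPred_eq] at hx hx' h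
      have h3 : x' = x + (f ⬝ᵥ x' - f ⬝ᵥ x) • u := by
        rw [sub_smul]
        have := sub_eq_sub_iff_add_eq_add.mp h
        rw [add_sub, this]
        abel
      have h4 := Q_add Q x ((f ⬝ᵥ x' - f ⬝ᵥ x) • u)
      rw [← h3, Bq_smul_right hq, Bq_comm, hw, Q_smul hq, hu, hx.1, hx'.1, mul_zero, add_zero,
        zero_add] at h4
      have h5 : f ⬝ᵥ x' - f ⬝ᵥ x = 0 := (mul_eq_zero.mp h4.symm).resolve_right hx.2
      rw [h3, h5, zero_smul, add_zero]
  calc _ ≤ _ := Finset.card_le_card h1
    _ ≤ _ := Finset.card_union_le _ _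
    _ ≤ Fintype.card F ^ (m + 1) + Fintype.card F ^ (m + 1) := by
      refine Nat.add_le_add ?_ (h2.trans ?_)
      · rw [card_fiber' (m := m + 1) (by rw [hm]) w hw0 0]
      · rw [card_fiber' (m := m + 1) (by rw [hm]) f hf0 0]
    _ = _ := by ring

theorem card_second_iso_le {m : ℕ} (hm : Fintype.card l = m + 2) {Q : (l → F) → F} (hq : IsQ Q)
    (x : l → F) (hx : Q x = 0) (β c : F) (hc : c ≠ 0) :
    (Finset.univ.filter (fun y : l → F => Q y = β ∧ Bq Q x y = c)).card ≤ Fintype.card F ^ m := by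
  set S := Finset.univ.filter (fun y : l → F => Q y = β ∧ Bq Q x y = c) with hS
  rcases S.eq_empty_or_nonempty with h0 | ⟨y0, hy0⟩
  · rw [h0]; simp
  have hy0' : Bq Q x y0 = c := by
    rw [hS, Finset.mem_filter] at hy0
    exact hy0.2.2
  obtain ⟨w, hw⟩ := exists_rep hq x
  have hw0 : w ≠ 0 := rep_ne_zero (y := y0) hw (by rw [hy0']; exact hc)
  have h1 : (S ×ˢ (Finset.univ : Finset F)).card ≤
      (Finset.univ.filter (fun z : l → F => w ⬝ᵥ z = c)).card := by
    refine Finset.card_le_card_of_injOn (fun p => p.1 + p.2 • x) ?_ ?_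
    · rintro ⟨y, t⟩ hp
      rw [Finset.mem_coe, Finset.mem_product, hS, Finset.mem_filter] at hp
      simp only [Finset.coe_filter, Finset.mem_univ, true_and, Set.mem_ofPred_eq]
      rw [← hw, Bq_add_right hq, Bq_smul_right hq, Bq_self hq, mul_zero, add_zero]
      exact hp.1.2.2
    · rintro ⟨y, t⟩ hp ⟨y', t'⟩ hp' h
      rw [Finset.mem_coe, Finset.mem_product, hS, Finset.mem_filter] at hp hp'
      simp only at h hp hp'
      have h3 : y' = y + (t - t') • x := by
        rw [sub_smul, add_sub, h]; abel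
      have h4 := Q_add Q y ((t - t') • x)
      rw [← h3, Bq_smul_right hq, Bq_comm, Q_smul hq, hx, hp.1.2.1, hp'.1.2.1, hp.1.2.2, mul_zero,
        add_zero] at h4
      have h5 : (t - t') * c = 0 := by linear_combination -h4
      have h6 : t - t' = 0 := (mul_eq_zero.mp h5).resolve_right hc
      rw [h6, zero_smul, add_zero] at h3
      rw [h3, sub_eq_zero.mp h6]
  rw [Finset.card_product, Finset.card_univ, card_fiber' (m := m + 1) (by rw [hm]) w hw0 c,
    pow_succ] at h1
  exact Nat.le_of_mul_le_mul_right h1 Fintype.card_pos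

/-- the number of vectors with a given value, for a form whose isotropic vectors lie in the
radical -/
theorem card_aniso_le {m : ℕ} (hm : Fintype.card l = m + 2) {Q : (l → F) → F} (hq : IsQ Q)
    (hP : ∀ x y, Q x = 0 → Bq Q x y = 0) (x1 y1 : l → F) (h11 : Bq Q x1 y1 ≠ 0) (α : F)
    (hα : α ≠ 0) :
    (Finset.univ.filter (fun x : l → F => Q x = α)).card ≤
      (Fintype.card F + 1) * Fintype.card F ^ m := by
  set S := Finset.univ.filter (fun x : l → F => Q x = α) with hS
  obtain ⟨w1, hw1⟩ := exists_rep hq x1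
  obtain ⟨w2, hw2⟩ := exists_rep hq y1
  have hx1 : Q x1 ≠ 0 := fun h => h11 (hP x1 y1 h)
  -- many vectors of value zero
  have h1 : Fintype.card F ^ m ≤ (Finset.univ.filter (fun z : l → F => Q z = 0)).card := by
    refine (card_two_ge hm w1 w2).trans (Finset.card_le_card ?_)
    intro z hz
    simp only [Finset.mem_filter, Finset.mem_univ, true_and] at hz ⊢
    rw [← hw1, ← hw2] at hz
    obtain ⟨t, ht⟩ : ∃ t : F, t ^ 2 * Q x1 = Q z := by
      obtain ⟨t, ht⟩ := FiniteField.isSquare_of_char_two (by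
        rw [ringChar.eq_iff]; infer_instance) (Q z / Q x1)
      refine ⟨t, ?_⟩
      rw [pow_two, ← ht]
      field_simp
    have h2 : Q (t • x1 + z) = 0 := by
      rw [Q_add Q, Q_smul hq, Bq_smul_left hq, hz.1, mul_zero, add_zero, ht]
      exact CharTwo.add_self_eq_zero _
    have h3 := hP _ y1 h2
    rw [Bq_add_left hq, Bq_smul_left hq, Bq_comm Q z y1, hz.2, add_zero] at h3
    have h4 : t = 0 := (mul_eq_zero.mp h3).resolve_right h11
    rw [← ht, h4]; ring
  -- scaling
  have h2 : (S ×ˢ ((Finset.univ : Finset F).erase 0)).card ≤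
      (Finset.univ.filter (fun z : l → F => ¬ Q z = 0)).card := by
    refine Finset.card_le_card_of_injOn (fun p => p.2 • p.1) ?_ ?_
    · rintro ⟨y, t⟩ hp
      rw [Finset.mem_coe, Finset.mem_product, hS, Finset.mem_filter, Finset.mem_erase] at hp
      simp only [Finset.coe_filter, Finset.mem_univ, true_and, Set.mem_ofPred_eq]
      rw [Q_smul hq, hp.1.2]
      exact mul_ne_zero (pow_ne_zero _ hp.2.1) hα
    · rintro ⟨y, t⟩ hp ⟨y', t'⟩ hp' h
      rw [Finset.mem_coe, Finset.mem_product, hS, Finset.mem_filter, Finset.mem_erase] at hp hp'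
      simp only at h hp hp'
      have h3 := congrArg Q h
      rw [Q_smul hq, Q_smul hq, hp.1.2, hp'.1.2] at h3
      have h4 : (t - t') ^ 2 * α = 0 := by
        have h5 : (t - t') ^ 2 = t ^ 2 - t' ^ 2 := by
          have : (2 : F) = 0 := CharTwo.two_eq_zero
          linear_combination (-t * t' + t' ^ 2) * this
        rw [h5, sub_mul, h3, sub_self]
      have h5 : t = t' := by
        have := (mul_eq_zero.mp h4).resolve_right hα
        exact sub_eq_zero.mp (eq_zero_of_pow_eq_zero this)
      subst h5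
      rw [Prod.mk.injEq]
      refine ⟨?_, rfl⟩
      exact smul_right_injective _ hp.2.1 h
  have h3 := Finset.card_filter_add_card_filter_not (s := (Finset.univ : Finset (l → F)))
    (fun z => Q z = 0)
  rw [Finset.card_univ, Fintype.card_fun, hm] at h3
  rw [Finset.card_product, Finset.card_erase_of_mem (Finset.mem_univ _), Finset.card_univ] at h2
  have hq2 : 2 ≤ Fintype.card F := Fintype.one_lt_card
  have h4 : S.card * (Fintype.card F - 1) ≤ Fintype.card F ^ (m + 2) - Fintype.card F ^ m := by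
    omega
  have h5 : Fintype.card F ^ (m + 2) - Fintype.card F ^ m =
      (Fintype.card F + 1) * Fintype.card F ^ m * (Fintype.card F - 1) := by
    obtain ⟨k, hk⟩ : ∃ k, Fintype.card F = k + 1 := ⟨Fintype.card F - 1, by omega⟩
    rw [hk]
    have : (k + 1) ^ (m + 2) = (k + 1 + 1) * (k + 1) ^ m * (k + 1 - 1) + (k + 1) ^ m := by
      rw [Nat.add_sub_cancel]; ring
    rw [this, Nat.add_sub_cancel]
  rw [h5] at h4
  exact Nat.le_of_mul_le_mul_right h4 (by omega)

theorem card_second_aniso_le {m : ℕ} (hm : Fintype.card l = m + 2) {Q : (l → F) → F} (hq : IsQ Q)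
    (x : l → F) (hx : Q x ≠ 0) (β c : F) (hc : c ≠ 0) :
    (Finset.univ.filter (fun y : l → F => Q y = β ∧ Bq Q x y = c)).card ≤
      2 * Fintype.card F ^ m := by
  set S := Finset.univ.filter (fun y : l → F => Q y = β ∧ Bq Q x y = c) with hS
  rcases S.eq_empty_or_nonempty with h0 | ⟨y0, hy0⟩
  · rw [h0]; simp
  have hy0' : Bq Q x y0 = c := by
    rw [hS, Finset.mem_filter] at hy0
    exact hy0.2.2
  obtain ⟨w, hw⟩ := exists_rep hq x
  have hw0 : w ≠ 0 := rep_ne_zero (y := y0) hw (by rw [hy0']; exact hc)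
  have h1 : (S ×ˢ (Finset.univ : Finset F)).card ≤
      2 * ((S ×ˢ (Finset.univ : Finset F)).image (fun p => p.1 + p.2 • x)).card := by
    apply Finset.card_le_mul_card_image
    intro z hz
    rw [Finset.mem_image] at hz
    -- the fibre injects into the roots of a quadratic polynomial
    have h2 : ((S ×ˢ (Finset.univ : Finset F)).filter (fun p => p.1 + p.2 • x = z)).card ≤
        (Finset.univ.filter (fun t : F => Q x * t ^ 2 - Bq Q z x * t + (Q z - β) = 0)).card := by
      refine Finset.card_le_card_of_injOn (fun p => p.2) ?_ ?_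
      · rintro ⟨y, t⟩ hp
        rw [Finset.mem_coe, Finset.mem_filter, Finset.mem_product, hS, Finset.mem_filter] at hp
        simp only [Finset.coe_filter, Finset.mem_univ, true_and, Set.mem_ofPred_eq]
        have hy : y = z + (-t) • x := by rw [neg_smul, ← hp.2]; simp
        have h3 := Q_add Q z ((-t) • x)
        rw [← hy, Q_smul hq, Bq_smul_right hq, hp.1.1.2.1] at h3
        linear_combination -h3
      · rintro ⟨y, t⟩ hp ⟨y', t'⟩ hp' h
        rw [Finset.mem_coe, Finset.mem_filter] at hp hp'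
        simp only at h hp hp'
        subst h
        have := hp.2.trans hp'.2.symm
        rw [add_right_cancel this]
    refine h2.trans ?_
    by_contra hcon
    push Not at hcon
    rw [Finset.two_lt_card] at hcon
    obtain ⟨a, ha, b, hb, c', hc', hab, hac, hbc⟩ := hcon
    simp only [Finset.mem_filter, Finset.mem_univ, true_and] at ha hb hc'
    have e1 : Q x * (a + b) - Bq Q z x = 0 := by
      have : (a - b) * (Q x * (a + b) - Bq Q z x) = 0 := by linear_combination ha - hb
      exact (mul_eq_zero.mp this).resolve_left (sub_ne_zero.mpr hab)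
    have e2 : Q x * (a + c') - Bq Q z x = 0 := by
      have : (a - c') * (Q x * (a + c') - Bq Q z x) = 0 := by linear_combination ha - hc'
      exact (mul_eq_zero.mp this).resolve_left (sub_ne_zero.mpr hac)
    have e3 : Q x * (b - c') = 0 := by linear_combination e1 - e2
    exact hbc (sub_eq_zero.mp ((mul_eq_zero.mp e3).resolve_left hx))
  have h2 : ((S ×ˢ (Finset.univ : Finset F)).image (fun p => p.1 + p.2 • x)).card ≤
      (Finset.univ.filter (fun z : l → F => w ⬝ᵥ z = c)).card := by
    apply Finset.card_le_card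
    intro z hz
    rw [Finset.mem_image] at hz
    obtain ⟨⟨y, t⟩, hp, rfl⟩ := hz
    rw [Finset.mem_product, hS, Finset.mem_filter] at hp
    simp only [Finset.mem_filter, Finset.mem_univ, true_and]
    rw [← hw, Bq_add_right hq, Bq_smul_right hq, Bq_self hq, mul_zero, add_zero]
    exact hp.1.2.2
  rw [card_fiber' (m := m + 1) (by rw [hm]) w hw0 c, pow_succ] at h2
  rw [Finset.card_product, Finset.card_univ] at h1
  have h3 : S.card * Fintype.card F ≤ 2 * Fintype.card F ^ m * Fintype.card F := by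
    calc _ ≤ _ := h1
      _ ≤ _ := Nat.mul_le_mul_left 2 h2
      _ = _ := by ring
  exact Nat.le_of_mul_le_mul_right h3 Fintype.card_pos

/-- The final inequality. -/
theorem count {m : ℕ} (hm : Fintype.card l = m + 2) (O : Finset ((l → F) → F))
    (hquad : ∀ Q ∈ O, IsQ Q)
    (hclosed : ∀ Q ∈ O, ∀ g : Matrix l l F, g.det ≠ 0 → (fun x => Q (g *ᵥ x)) ∈ O)
    (Q0 : (l → F) → F) (hQ0 : Q0 ∈ O) (x0 y0 : l → F) (hγ : Bq Q0 x0 y0 ≠ 0) :
    (Fintype.card F ^ (m + 2) - 1) * (Fintype.card F ^ (m + 2) - Fintype.card F) ≤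
      O.card * (2 * (Fintype.card F + 1)) := by
  have hq0 := hquad Q0 hQ0
  -- abstract double counting
  have main : ∀ (O' : Finset ((l → F) → F)), (∀ Q ∈ O', Q ∈ O) →
      (∀ Q ∈ O', ∀ g : Matrix l l F, g.det ≠ 0 → (fun x => Q (g *ᵥ x)) ∈ O') → Q0 ∈ O' →
      ∀ x0 y0 : l → F, Bq Q0 x0 y0 ≠ 0 →
      (∀ Q ∈ O', ((pairs F l).filter (fun p => Q p.1 = Q0 x0 ∧ Q p.2 = Q0 y0 ∧
        Bq Q p.1 p.2 = Bq Q0 x0 y0)).card ≤
        (2 * (Fintype.card F + 1)) * (Fintype.card F ^ m * Fintype.card F ^ m)) →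
      (Fintype.card F ^ (m + 2) - 1) * (Fintype.card F ^ (m + 2) - Fintype.card F) ≤
      O.card * (2 * (Fintype.card F + 1)) := by
    intro O' hO' hcl hQ0' x0 y0 hγ hN
    have key := Finset.card_mul_le_card_mul (s := pairs F l) (t := O')
      (fun p Q => Q p.1 = Q0 x0 ∧ Q p.2 = Q0 y0 ∧ Bq Q p.1 p.2 = Bq Q0 x0 y0)
      (m := Fintype.card F ^ m * Fintype.card F ^ m)
      (n := (2 * (Fintype.card F + 1)) * (Fintype.card F ^ m * Fintype.card F ^ m)) ?_ ?_
    · rw [card_pairs hm, ← mul_assoc O'.card] at key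
      have h1 := Nat.le_of_mul_le_mul_right key
        (Nat.mul_pos (pow_pos Fintype.card_pos m) (pow_pos Fintype.card_pos m))
      refine h1.trans (Nat.mul_le_mul_right _ (Finset.card_le_card hO'))
    · intro p hp
      have := many_forms hm O' hcl Q0 hQ0' hq0 x0 y0 hγ (Bq_self hq0) p hp
      exact this
    · intro Q hQ
      exact hN Q hQ
  by_cases hiso : ∃ x y, Q0 x = 0 ∧ Bq Q0 x y ≠ 0
  · -- hyperbolic case
    obtain ⟨x1, y1, h1, h2⟩ := hiso
    -- normalise
    have hy : ∃ y2, Q0 y2 = 0 ∧ Bq Q0 x1 y2 = 1 := by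
      set c := Bq Q0 x1 y1 with hc
      refine ⟨c⁻¹ • y1 + (-(c⁻¹ ^ 2 * Q0 y1)) • x1, ?_, ?_⟩
      · rw [Q_add Q0, Q_smul hq0, Q_smul hq0, h1, Bq_smul_left hq0, Bq_smul_right hq0,
          Bq_comm Q0 y1 x1, ← hc]
        field_simp
        ring
      · rw [Bq_add_right hq0, Bq_smul_right hq0, Bq_smul_right hq0, Bq_self hq0, ← hc]
        field_simp
        ring
    obtain ⟨y2, h3, h4⟩ := hy
    refine main O (fun Q hQ => hQ) hclosed hQ0 x1 y2 (by rw [h4]; exact one_ne_zero) ?_
    intro Q hQ
    have hq := hquad Q hQ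
    rw [h1, h3, h4]
    set T := (pairs F l).filter (fun p => Q p.1 = 0 ∧ Q p.2 = 0 ∧ Bq Q p.1 p.2 = 1) with hT
    rcases T.eq_empty_or_nonempty with h0 | ⟨p0, hp0⟩
    · rw [h0]; simp
    rw [hT, Finset.mem_filter] at hp0
    have h5 : T.card ≤ Fintype.card F ^ m * (T.image Prod.fst).card := by
      apply Finset.card_le_mul_card_image
      intro x hx
      rw [Finset.mem_image] at hx
      obtain ⟨p, hp, rfl⟩ := hx
      rw [hT, Finset.mem_filter] at hp
      refine le_trans ?_ (card_second_iso_le hm hq p.1 hp.2.1 0 1 one_ne_zero)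
      refine Finset.card_le_card_of_injOn Prod.snd ?_ ?_
      · intro p' hp'
        simp only [Finset.coe_filter, Finset.mem_filter, Set.mem_ofPred_eq, hT] at hp'
        simp only [Finset.coe_filter, Finset.mem_univ, true_and, Set.mem_ofPred_eq]
        rw [← hp'.2]
        exact ⟨hp'.1.2.2.1, hp'.1.2.2.2⟩
      · intro p' hp' p'' hp'' h
        rw [Finset.mem_coe, Finset.mem_filter] at hp' hp''
        exact Prod.ext (hp'.2.trans hp''.2.symm) h
    have h6 : (T.image Prod.fst).card ≤ 2 * Fintype.card F ^ (m + 1) := by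
      refine le_trans (Finset.card_le_card ?_)
        (card_iso_le hm hq p0.1 p0.2 hp0.2.1 (by rw [hp0.2.2.2]; exact one_ne_zero))
      intro x hx
      rw [Finset.mem_image] at hx
      obtain ⟨p, hp, rfl⟩ := hx
      rw [hT, Finset.mem_filter] at hp
      simp only [Finset.mem_filter, Finset.mem_univ, true_and]
      exact hp.2.1
    calc T.card ≤ Fintype.card F ^ m * (2 * Fintype.card F ^ (m + 1)) :=
          h5.trans (Nat.mul_le_mul_left _ h6)
      _ = 2 * Fintype.card F * (Fintype.card F ^ m * Fintype.card F ^ m) := by ring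
      _ ≤ _ := by
        apply Nat.mul_le_mul_right
        omega
  · -- anisotropic case
    push Not at hiso
    let P : ((l → F) → F) → Prop := fun Q => ∀ x y, Q x = 0 → Bq Q x y = 0
    have hfin : ∀ Q, Decidable (P Q) := fun Q => Classical.propDecidable _
    refine main (O.filter P) (fun Q hQ => (Finset.mem_filter.mp hQ).1) ?_ ?_ x0 y0 hγ ?_
    · intro Q hQ g hg
      rw [Finset.mem_filter] at hQ ⊢
      refine ⟨hclosed Q hQ.1 g hg, ?_⟩
      intro x y hx
      rw [Bq_comp]
      exact hQ.2 _ _ hx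
    · rw [Finset.mem_filter]
      exact ⟨hQ0, hiso⟩
    · intro Q hQ
      rw [Finset.mem_filter] at hQ
      have hq := hquad Q hQ.1
      have hα : Q0 x0 ≠ 0 := fun h => hγ (hiso x0 y0 h)
      set T := (pairs F l).filter (fun p => Q p.1 = Q0 x0 ∧ Q p.2 = Q0 y0 ∧
        Bq Q p.1 p.2 = Bq Q0 x0 y0) with hT
      rcases T.eq_empty_or_nonempty with h0 | ⟨p0, hp0⟩
      · rw [h0]; simp
      rw [hT, Finset.mem_filter] at hp0
      have h5 : T.card ≤ (2 * Fintype.card F ^ m) * (T.image Prod.fst).card := by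
        apply Finset.card_le_mul_card_image
        intro x hx
        rw [Finset.mem_image] at hx
        obtain ⟨p, hp, rfl⟩ := hx
        rw [hT, Finset.mem_filter] at hp
        refine le_trans ?_ (card_second_aniso_le hm hq p.1 (by rw [hp.2.1]; exact hα) (Q0 y0)
          (Bq Q0 x0 y0) hγ)
        refine Finset.card_le_card_of_injOn Prod.snd ?_ ?_
        · intro p' hp'
          simp only [Finset.coe_filter, Finset.mem_filter, Set.mem_ofPred_eq, hT] at hp'
          simp only [Finset.coe_filter, Finset.mem_univ, true_and, Set.mem_ofPred_eq]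
          rw [← hp'.2]
          exact ⟨hp'.1.2.2.1, hp'.1.2.2.2⟩
        · intro p' hp' p'' hp'' h
          rw [Finset.mem_coe, Finset.mem_filter] at hp' hp''
          exact Prod.ext (hp'.2.trans hp''.2.symm) h
      have h6 : (T.image Prod.fst).card ≤ (Fintype.card F + 1) * Fintype.card F ^ m := by
        refine le_trans (Finset.card_le_card ?_)
          (card_aniso_le hm hq hQ.2 p0.1 p0.2 (by rw [hp0.2.2.2]; exact hγ) (Q0 x0) hα)
        intro x hx
        rw [Finset.mem_image] at hx
        obtain ⟨p, hp, rfl⟩ := hx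
        rw [hT, Finset.mem_filter] at hp
        simp only [Finset.mem_filter, Finset.mem_univ, true_and]
        exact hp.2.1
      calc T.card ≤ (2 * Fintype.card F ^ m) * ((Fintype.card F + 1) * Fintype.card F ^ m) :=
            h5.trans (Nat.mul_le_mul_left _ h6)
        _ = _ := by ring

end H44.LSQuad
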