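import Cfsg.Agent.Lib.H44.LSBound
import Cfsg.Agent.Lib.H6.SympSimple

/-! Lower bound for the degrees of nontrivial cross-characteristic representations of symplectic
groups in odd characteristic. -/

set_option autoImplicit false

open Matrix H44.LSLinear H44.LSForms H44.LSWeights H44.LSBound H6.Symp

namespace H44.LSSp

variable {F : Type*} [Field F] {l : Type*} [Fintype l] [DecidableEq l]

theorem unip_mem (a : Matrix l l F) (ha : aᵀ = a) :
    fromBlocks 1 a 0 1 ∈ symplecticGroup l F := by
  rw [SymplecticGroup.mem_iff, J, fromBlocks_transpose, fromBlocks_multiply, fromBlocks_multiply]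
  simp [ha]

theorem levi_mem (g : Matrix l l F) (hg : g.det ≠ 0) :
    fromBlocks g 0 0 (g⁻¹)ᵀ ∈ symplecticGroup l F := by
  have hunit : IsUnit g.det := isUnit_iff_ne_zero.mpr hg
  rw [SymplecticGroup.mem_iff, J, fromBlocks_transpose, fromBlocks_multiply, fromBlocks_multiply]
  have h1 : (g⁻¹)ᵀ * gᵀ = 1 := by rw [← transpose_mul, mul_nonsing_inv g hunit, transpose_one]
  simp [h1, mul_nonsing_inv g hunit]

/-- the unipotent radical of the Siegel parabolic -/
def unip (l : Type*) [Fintype l] [DecidableEq l] (F : Type*) [Field F] :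
    Multiplicative (Hm l (RingHom.id F)) →* symplecticGroup l F where
  toFun a := ⟨fromBlocks 1 (Multiplicative.toAdd a).1 0 1,
    unip_mem _ (by have := (Multiplicative.toAdd a).2; rw [mem_Hm] at this; simpa using this)⟩
  map_one' := by
    apply Subtype.ext
    simp [toAdd_one]
  map_mul' a b := by
    apply Subtype.ext
    simp only [toAdd_mul, AddSubgroup.coe_add, Submonoid.coe_mul]
    rw [fromBlocks_multiply]
    simp [add_comm]

theorem unip_coe (a : Multiplicative (Hm l (RingHom.id F))) :
    (unip l F a).1 = fromBlocks 1 (Multiplicative.toAdd a).1 0 1 := rfl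

theorem single_mem (i : l) (a : F) : Matrix.single i i a ∈ Hm l (RingHom.id F) := by
  rw [mem_Hm_iff]
  intro x y
  simp only [RingHom.id_apply, Matrix.single_apply]
  by_cases hx : i = x <;> by_cases hy : i = y <;> simp [hx, hy]

theorem unip_single (i : l) (a : F) :
    unip l F (Multiplicative.ofAdd ⟨Matrix.single i i (-a), single_mem i (-a)⟩) = tv a (e i) := by
  apply ext_mulVec
  intro u
  rw [tv_mulVec, bf_e_left, unip_coe, toAdd_ofAdd]
  ext k
  rcases k with k | k
  · rw [fromBlocks_mulVec]
    simp only [Sum.elim_inl, one_mulVec, Pi.add_apply, Pi.smul_apply, smul_eq_mul, e,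
      Function.comp_apply]
    rw [Matrix.single_mulVec]
    by_cases hk : k = i
    · subst hk; simp
    · simp [hk]
  · rw [fromBlocks_mulVec]
    simp [e]

theorem eq_one_of_unip {H : Type*} [Monoid H] (τ : symplecticGroup l F →* H)
    (h : ∀ b, τ (unip l F b) = 1) : ∀ g, τ g = 1 := by
  have h1 : ∀ (a : F) (u : l ⊕ l → F), tv a u ∈ τ.ker := by
    intro a u
    by_cases hu : u = 0
    · rw [hu]
      have : tv a (0 : l ⊕ l → F) = 1 := by
        apply ext_mulVec
        intro x
        rw [tv_mulVec, coe_one_mulVec]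
        simp
      rw [this]; exact Subgroup.one_mem _
    · obtain ⟨i⟩ : Nonempty l := by
        by_contra hcon
        rw [not_nonempty_iff] at hcon
        apply hu
        ext k
        rcases k with k | k <;> exact (hcon.false k).elim
      have he : (e i : l ⊕ l → F) ≠ 0 := by
        intro h0
        have := congrFun h0 (.inl i)
        simp [e] at this
      obtain ⟨g, hg⟩ := exists_mulVec_eq he hu
      rw [← hg, ← tv_conj]
      apply (inferInstance : τ.ker.Normal).conj_mem
      rw [← unip_single]
      exact h _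
  have h2 := eq_top_of_tv_mem τ.ker h1
  intro g
  have : g ∈ τ.ker := by rw [h2]; trivial
  exact this

theorem eq_zero_of_diag (h2 : (2 : F) ≠ 0) (D : Matrix l l F) (hD : D ∈ Hm l (RingHom.id F))
    (h : ∀ x, fm (RingHom.id F) D x x = 0) : D = 0 := by
  have h1 : ∀ x y, fm (RingHom.id F) D x y = 0 := by
    intro x y
    have h3 := h (x + y)
    rw [fm_add_left, fm_add_right, fm_add_right, h, h, zero_add, add_zero] at h3
    have h4 : fm (RingHom.id F) D y x = fm (RingHom.id F) D x y := by
      rw [mem_Hm_iff] at hD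
      simp only [RingHom.id_apply] at hD
      simp only [fm, dotProduct, mulVec, RingHom.id_apply, Finset.mul_sum]
      rw [Finset.sum_comm]
      refine Finset.sum_congr rfl (fun i _ => Finset.sum_congr rfl (fun k _ => ?_))
      rw [hD]
      ring
    rw [h4, ← two_mul] at h3
    exact (mul_eq_zero.mp h3).resolve_left h2
  ext i j
  have h3 := h1 (Pi.single i 1) (Pi.single j 1)
  simp only [fm, RingHom.id_apply, single_dotProduct, mulVec_single, one_mul] at h3
  simpa using h3

theorem card_sq_le [DecidableEq F] (s : Finset F) (d : F)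
    (h : ∀ a ∈ s, a * (RingHom.id F) a = d) : s.card ≤ 2 := by
  by_cases hs : s.Nonempty
  · obtain ⟨b, hb⟩ := hs
    have : s ⊆ {b, -b} := by
      intro a ha
      have h1 := h a ha
      have h2 := h b hb
      simp only [RingHom.id_apply] at h1 h2
      rw [Finset.mem_insert, Finset.mem_singleton]
      have h3 : (a - b) * (a + b) = 0 := by linear_combination h1 - h2
      rcases mul_eq_zero.mp h3 with h4 | h4
      · left; exact sub_eq_zero.mp h4
      · right; exact eq_neg_of_add_eq_zero_left h4
    exact (Finset.card_le_card this).trans (Finset.card_le_two)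
  · rw [Finset.not_nonempty_iff_eq_empty] at hs
    rw [hs]; simp

/-- The Landazuri–Seitz bound for symplectic groups in odd characteristic. -/
theorem lower [Fintype F] (hodd : Odd (Fintype.card F)) {m : ℕ} (hm : Fintype.card l = m + 1)
    {K : Type*} [Field K] [IsAlgClosed K] (hp : (Fintype.card F : K) ≠ 0)
    {V : Type*} [AddCommGroup V] [Module K V] [FiniteDimensional K V]
    (τ : symplecticGroup l F →* Module.End K V) (hτ : ∃ g, τ g ≠ 1) :
    Fintype.card F ^ (m + 1) - 1 ≤ Module.finrank K V * 2 := by
  classical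
  have h2 : (2 : F) ≠ 0 := by
    intro h0
    have h1 : ringChar F ∣ 2 := (CharP.cast_eq_zero_iff F (ringChar F) 2).mp (by exact_mod_cast h0)
    have h3 : ringChar F = 2 := by
      rcases (Nat.dvd_prime Nat.prime_two).mp h1 with h | h
      · exact absurd h (CharP.char_is_prime F (ringChar F)).ne_one
      · exact h
    have h4 : ringChar F ∣ Fintype.card F :=
      (CharP.cast_eq_zero_iff F (ringChar F) (Fintype.card F)).mp (FiniteField.cast_card_eq_zero F)
    rw [h3] at h4
    obtain ⟨k, hk⟩ := hodd
    omega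
  obtain ⟨b, hb⟩ : ∃ b, τ (unip l F b) ≠ 1 := by
    by_contra hcon
    push Not at hcon
    obtain ⟨g, hg⟩ := hτ
    exact hg (eq_one_of_unip τ hcon g)
  have hσ : ∀ x, (RingHom.id F) ((RingHom.id F) x) = x := fun x => rfl
  have hlevi : ∀ g : Matrix l l F, g.det ≠ 0 → ∃ L : symplecticGroup l F,
      ∀ a : Hm l (RingHom.id F), L * unip l F (Multiplicative.ofAdd a) =
        unip l F (Multiplicative.ofAdd
          ⟨(g⁻¹).map (RingHom.id F) * a.1 * (g⁻¹)ᵀ, act_mem hσ _ _ a.2⟩) * L := by
    intro g hg
    have hunit : IsUnit g.det := isUnit_iff_ne_zero.mpr hg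
    have hgi : (g⁻¹).det ≠ 0 := by
      rw [det_nonsing_inv]
      simpa using hg
    have h5 := levi_mem (g⁻¹) hgi
    rw [nonsing_inv_nonsing_inv g hunit] at h5
    refine ⟨⟨fromBlocks g⁻¹ 0 0 gᵀ, h5⟩, ?_⟩
    intro a
    apply Subtype.ext
    simp only [Submonoid.coe_mul, unip_coe, toAdd_ofAdd, fromBlocks_multiply]
    have h6 : (g⁻¹)ᵀ * gᵀ = 1 := by rw [← transpose_mul, mul_nonsing_inv g hunit, transpose_one]
    have h7 : (g⁻¹).map (RingHom.id F) = g⁻¹ := by ext i j; simp
    rw [h7]
    simp [mul_assoc, h6]
  obtain ⟨X, hX1, hX2⟩ := exists_chars hp hσ (eq_zero_of_diag h2) hm (fun g => g.det ≠ 0)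
    (fun g hg => hg) exists_gl_pair τ (unip l F) hlevi b hb 2 card_sq_le
  refine hX2.trans (Nat.mul_le_mul_right 2 ?_)
  have hfinM : Finite (Matrix l l F) := by
    have : Finite (l → l → F) := inferInstance
    exact this
  have hfin : Finite (Multiplicative (Hm l (RingHom.id F))) := inferInstance
  have h3 := card_le (K := K) (card_Hm_ne_zero _ hp) (τ.comp (unip l F)) X 1
    (fun χ hχ => one_le_finrank _ (hX1 χ hχ).2)
  rwa [mul_one] at h3

end H44.LSSp
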