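import Cfsg.Agent.Lib.H44.LSBound

/-! The Landazuri–Seitz bound for a group with an abelian subgroup isomorphic to a space of vectors
normalised by a group that is transitive on nonzero functionals. -/

set_option autoImplicit false

open Matrix H44.LSLinear H44.LSForms H44.LSWeights H44.LSBound

namespace H44.LSVec

variable {F : Type*} [Field F] {ι : Type*} [Fintype ι]

variable {K : Type*} [Field K]

/-- the character attached to a vector -/
def vchi (ψ : Multiplicative F →* Kˣ) (f : ι → F) : Multiplicative (ι → F) →* Kˣ where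
  toFun a := ψ (Multiplicative.ofAdd (f ⬝ᵥ Multiplicative.toAdd a))
  map_one' := by rw [toAdd_one, dotProduct_zero, ofAdd_zero, map_one]
  map_mul' a b := by rw [toAdd_mul, dotProduct_add, ofAdd_add, map_mul]

theorem vchi_apply (ψ : Multiplicative F →* Kˣ) (f : ι → F) (a : Multiplicative (ι → F)) :
    vchi ψ f a = ψ (Multiplicative.ofAdd (f ⬝ᵥ Multiplicative.toAdd a)) := rfl

theorem vchi_inj (ψ : Multiplicative F →* Kˣ) (hψ : ψ (Multiplicative.ofAdd 1) ≠ 1)
    {f g : ι → F} (h : vchi ψ f = vchi ψ g) : f = g := by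
  classical
  by_contra hne
  obtain ⟨i, hi⟩ := Function.ne_iff.mp hne
  have h1 := DFunLike.congr_fun h (Multiplicative.ofAdd (Pi.single i ((f i - g i)⁻¹)))
  rw [vchi_apply, vchi_apply, toAdd_ofAdd, dotProduct_single, dotProduct_single] at h1
  apply hψ
  have h2 : (1 : F) = f i * (f i - g i)⁻¹ - g i * (f i - g i)⁻¹ := by
    rw [← sub_mul, mul_inv_cancel₀ (sub_ne_zero.mpr hi)]
  rw [h2, ofAdd_sub, map_div, h1, div_self']

variable {V : Type*} [AddCommGroup V] [Module K V] {G : Type*} [Group G]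

theorem lower [Fintype F] [IsAlgClosed K] [FiniteDimensional K V] (hp : (Fintype.card F : K) ≠ 0)
    (τ : G →* Module.End K V) (j : Multiplicative (ι → F) →* G)
    (P : Matrix ι ι F → Prop)
    (htrans : ∀ f f' : ι → F, f ≠ 0 → f' ≠ 0 → ∃ g, P g ∧ gᵀ *ᵥ f' = f)
    (hlevi : ∀ g : Matrix ι ι F, P g → ∃ L : G, ∀ a : ι → F,
      L * j (Multiplicative.ofAdd a) = j (Multiplicative.ofAdd (g *ᵥ a)) * L)
    (hPdet : ∀ g, P g → ∀ a : ι → F, ∃ b, g *ᵥ b = a)
    (b : Multiplicative (ι → F)) (hb : τ (j b) ≠ 1) :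
    Fintype.card F ^ Fintype.card ι - 1 ≤ Module.finrank K V := by
  classical
  have hprime : Fact (ringChar F).Prime := ⟨CharP.char_is_prime F (ringChar F)⟩
  have hpK : ((ringChar F : ℕ) : K) ≠ 0 := ringChar_ne_zero hp
  have hexpA : Monoid.exponent (Multiplicative (ι → F)) ∣ ringChar F := by
    apply Monoid.exponent_dvd_of_forall_pow_eq_one
    intro a
    apply Multiplicative.toAdd.injective
    rw [toAdd_pow, toAdd_one]
    ext i
    rw [Pi.smul_apply, nsmul_eq_mul, CharP.cast_eq_zero, zero_mul, Pi.zero_apply]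
  have hexpF : Monoid.exponent (Multiplicative F) ∣ ringChar F := by
    apply Monoid.exponent_dvd_of_forall_pow_eq_one
    intro a
    apply Multiplicative.toAdd.injective
    rw [toAdd_pow, toAdd_one, nsmul_eq_mul, CharP.cast_eq_zero, zero_mul]
  have hne : ∀ k : ℕ, k ∣ ringChar F → NeZero ((k : ℕ) : K) := by
    intro k hk
    refine ⟨fun h0 => hpK ?_⟩
    obtain ⟨c, hc⟩ := hk
    rw [hc, Nat.cast_mul, h0, zero_mul]
  have := hne _ hexpA
  have := hne _ hexpF
  have : HasEnoughRootsOfUnity K (Monoid.exponent (Multiplicative (ι → F))) := inferInstance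
  have : HasEnoughRootsOfUnity K (Monoid.exponent (Multiplicative F)) := inferInstance
  have hcardA : (Nat.card (Multiplicative (ι → F)) : K) ≠ 0 := by
    rw [Nat.card_eq_fintype_card, Fintype.card_multiplicative, Fintype.card_fun, Nat.cast_pow]
    exact pow_ne_zero _ hp
  obtain ⟨ψ, hψ⟩ := CommGroup.exists_apply_ne_one_of_hasEnoughRootsOfUnity (Multiplicative F) K
    (a := Multiplicative.ofAdd (1 : F)) (by
      intro h
      exact one_ne_zero (Multiplicative.ofAdd.injective (h.trans ofAdd_zero.symm)))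
  have hfinC : Finite (Multiplicative (ι → F) →* Kˣ) := by
    have h := CommGroup.card_monoidHom_of_hasEnoughRootsOfUnity (Multiplicative (ι → F)) K
    exact Nat.finite_of_card_ne_zero (by rw [h]; exact Nat.card_pos.ne')
  have hinj : Function.Injective (fun f : ι → F => vchi (K := K) ψ f) :=
    fun f g h => vchi_inj ψ hψ h
  have hsurj : Function.Surjective (fun f : ι → F => vchi (K := K) ψ f) := by
    have h2 : Nat.card (ι → F) = Nat.card (Multiplicative (ι → F) →* Kˣ) := by
      rw [CommGroup.card_monoidHom_of_hasEnoughRootsOfUnity]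
      exact Nat.card_congr Multiplicative.ofAdd
    exact ((Nat.bijective_iff_injective_and_card _).mpr ⟨hinj, h2⟩).2
  obtain ⟨χ0, hχ0, hχ0b⟩ := exists_weight hcardA (τ.comp j) b hb
  obtain ⟨f0, hf0⟩ := hsurj χ0
  simp only at hf0
  have hf0ne : f0 ≠ 0 := by
    rintro rfl
    apply hχ0b
    rw [← hf0, vchi_apply, zero_dotProduct, ofAdd_zero, map_one]
  have hall : ∀ f : ι → F, f ≠ 0 → wt (τ.comp j) (vchi ψ f) ≠ ⊥ := by
    intro f hf
    obtain ⟨g, hg1, hg2⟩ := htrans f0 f hf0ne hf
    obtain ⟨L, hL⟩ := hlevi g hg1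
    have hLinj : Function.Injective (τ L : V →ₗ[K] V) := by
      intro v w h
      have h1 : τ L⁻¹ (τ L v) = τ L⁻¹ (τ L w) := by rw [h]
      rw [← Module.End.mul_apply, ← Module.End.mul_apply, ← map_mul, inv_mul_cancel,
        map_one] at h1
      exact h1
    refine wt_map_ne_bot (τ.comp j) (τ L) hLinj
      (fun a => Multiplicative.ofAdd (g *ᵥ (Multiplicative.toAdd a))) ?_ ?_ (vchi ψ f0) _ ?_
      (by rw [hf0]; exact hχ0)
    · intro a v
      rw [MonoidHom.comp_apply, MonoidHom.comp_apply, ← Module.End.mul_apply,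
        ← Module.End.mul_apply, ← map_mul, ← map_mul]
      have := hL (Multiplicative.toAdd a)
      rw [ofAdd_toAdd] at this
      rw [this]
    · intro a
      obtain ⟨c, hc⟩ := hPdet g hg1 (Multiplicative.toAdd a)
      refine ⟨Multiplicative.ofAdd c, ?_⟩
      simp only [toAdd_ofAdd, hc, ofAdd_toAdd]
    · intro a
      rw [vchi_apply, vchi_apply, toAdd_ofAdd, dotProduct_mulVec, ← mulVec_transpose, hg2]
  have h3 := card_le (K := K) hcardA (τ.comp j)
    ((Finset.univ.erase (0 : ι → F)).image (vchi ψ)) 1 (by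
      intro χ hχ
      rw [Finset.mem_image] at hχ
      obtain ⟨f, hf, rfl⟩ := hχ
      exact one_le_finrank _ (hall f (Finset.ne_of_mem_erase hf)))
  rw [mul_one, Finset.card_image_of_injective _ hinj, Finset.card_erase_of_mem (Finset.mem_univ _),
    Finset.card_univ, Fintype.card_fun] at h3
  exact h3

end H44.LSVec
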