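import Cfsg.Agent.Lib.H44.LSSp
import Cfsg.Agent.Lib.H44.LSVec
import Cfsg.Agent.Lib.H44.LSQuadCount2
import Cfsg.Agent.Lib.H6.SympPerfect

/-! Lower bound for the degrees of nontrivial representations of symplectic groups in
characteristic two. -/

set_option autoImplicit false

open Matrix H44.LSLinear H44.LSForms H44.LSWeights H44.LSBound H6.Symp

namespace H44.LSSpEven

variable {K : Type*} [Field K]

/-- extension of characters along injections of finite abelian groups -/
theorem ext_char {A B : Type*} [CommGroup A] [CommGroup B] [Finite B]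
    [HasEnoughRootsOfUnity K (Monoid.exponent B)] (f : A →* B) (hf : Function.Injective f)
    (χ : A →* Kˣ) : ∃ χ' : B →* Kˣ, ∀ a, χ' (f a) = χ a := by
  let e := MonoidHom.ofInjective hf
  obtain ⟨χ', hχ'⟩ := MonoidHom.domRestrict_surjective K f.range (χ.comp e.symm.toMonoidHom)
  refine ⟨χ', fun a => ?_⟩
  have h1 := DFunLike.congr_fun hχ' (e a)
  have h2 : (MonoidHom.domRestrictHom f.range Kˣ χ') (e a) = χ' (f a) := rfl
  rw [h2] at h1
  rw [h1]
  change χ (e.symm (e a)) = χ a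
  rw [e.symm_apply_apply]

variable {F : Type*} [Field F] {l : Type*} [Fintype l] [DecidableEq l] [Fintype F]

/-- every character of the space of vectors comes from a vector -/
theorem vchi_surj {ι : Type*} [Fintype ι] [IsAlgClosed K] (hp : (Fintype.card F : K) ≠ 0)
    (ψ : Multiplicative F →* Kˣ) (hψ : ψ (Multiplicative.ofAdd 1) ≠ 1) :
    Function.Surjective (fun f : ι → F => LSVec.vchi (K := K) ψ f) ∧
    HasEnoughRootsOfUnity K (Monoid.exponent (Multiplicative (ι → F))) := by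
  classical
  have hprime : Fact (ringChar F).Prime := ⟨CharP.char_is_prime F (ringChar F)⟩
  have hpK : ((ringChar F : ℕ) : K) ≠ 0 := ringChar_ne_zero hp
  have hexpA : Monoid.exponent (Multiplicative (ι → F)) ∣ ringChar F := by
    apply Monoid.exponent_dvd_of_forall_pow_eq_one
    intro a
    apply Multiplicative.toAdd.injective
    rw [toAdd_pow, toAdd_one]
    ext i
    rw [Pi.smul_apply, nsmul_eq_mul, CharP.cast_eq_zero, zero_mul, Pi.zero_apply]
  have hne : ∀ k : ℕ, k ∣ ringChar F → NeZero ((k : ℕ) : K) := by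
    intro k hk
    refine ⟨fun h0 => hpK ?_⟩
    obtain ⟨c, hc⟩ := hk
    rw [hc, Nat.cast_mul, h0, zero_mul]
  have := hne _ hexpA
  have h0 : HasEnoughRootsOfUnity K (Monoid.exponent (Multiplicative (ι → F))) := inferInstance
  have hfinC : Finite (Multiplicative (ι → F) →* Kˣ) := by
    have h := CommGroup.card_monoidHom_of_hasEnoughRootsOfUnity (Multiplicative (ι → F)) K
    exact Nat.finite_of_card_ne_zero (by rw [h]; exact Nat.card_pos.ne')
  refine ⟨?_, h0⟩
  have h2 : Nat.card (ι → F) = Nat.card (Multiplicative (ι → F) →* Kˣ) := by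
    rw [CommGroup.card_monoidHom_of_hasEnoughRootsOfUnity]
    exact Nat.card_congr Multiplicative.ofAdd
  exact ((Nat.bijective_iff_injective_and_card _).mpr
    ⟨fun f g h => LSVec.vchi_inj ψ hψ h, h2⟩).2

/-- every character of the group of symmetric matrices comes from a matrix -/
theorem chi_surj [IsAlgClosed K] (hp : (Fintype.card F : K) ≠ 0)
    (ψ : Multiplicative F →* Kˣ) (hψ : ψ (Multiplicative.ofAdd 1) ≠ 1)
    (χ : Multiplicative (Hm l (RingHom.id F)) →* Kˣ) :
    ∃ S : Matrix l l F, chi (RingHom.id F) ψ S = χ := by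
  obtain ⟨hs, henough⟩ := vchi_surj (ι := l × l) hp ψ hψ
  let f : Multiplicative (Hm l (RingHom.id F)) →* Multiplicative (l × l → F) :=
    { toFun := fun a => Multiplicative.ofAdd (fun p => (Multiplicative.toAdd a).1 p.1 p.2)
      map_one' := rfl
      map_mul' := fun a b => rfl }
  have hf : Function.Injective f := by
    intro a b h
    apply Multiplicative.toAdd.injective
    apply Subtype.ext
    ext i j
    have := congrFun (congrArg Multiplicative.toAdd h) (i, j)
    exact this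
  obtain ⟨χ', hχ'⟩ := ext_char (K := K) f hf χ
  obtain ⟨w, hw⟩ := hs χ'
  refine ⟨Matrix.of (fun i j => w (j, i)), ?_⟩
  refine MonoidHom.ext (fun a => ?_)
  rw [← hχ', ← hw, chi_apply]
  simp only
  rw [LSVec.vchi_apply]
  congr 2
  simp only [trace, diag_apply, mul_apply, dotProduct, f, Matrix.of_apply]
  rw [Fintype.sum_prod_type, Finset.sum_comm]
  rfl

omit [Fintype F] in
theorem chi_val (ψ : Multiplicative F →* Kˣ) (S : Matrix l l F) (x : l → F) (c : F) :
    chi (RingHom.id F) ψ S (Multiplicative.ofAdd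
      ⟨_, rank1_mem (σ := RingHom.id F) (fun _ => rfl) x c rfl⟩) =
      ψ (Multiplicative.ofAdd (c * (x ⬝ᵥ (S *ᵥ x)))) := by
  rw [chi_apply, toAdd_ofAdd, trace_rank1]
  rfl

omit [Fintype F] in
theorem quad_eq (ψ : Multiplicative F →* Kˣ) (hψ : ψ (Multiplicative.ofAdd 1) ≠ 1)
    (S T : Matrix l l F) (h : chi (RingHom.id F) ψ S = chi (RingHom.id F) ψ T) (x : l → F) :
    x ⬝ᵥ (S *ᵥ x) = x ⬝ᵥ (T *ᵥ x) := by
  by_contra hne
  apply hψ
  have h1 := chi_val ψ S x ((x ⬝ᵥ (S *ᵥ x) - x ⬝ᵥ (T *ᵥ x))⁻¹)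
  rw [h, chi_val] at h1
  have h2 : (1 : F) = (x ⬝ᵥ (S *ᵥ x) - x ⬝ᵥ (T *ᵥ x))⁻¹ * (x ⬝ᵥ (S *ᵥ x)) -
      (x ⬝ᵥ (S *ᵥ x) - x ⬝ᵥ (T *ᵥ x))⁻¹ * (x ⬝ᵥ (T *ᵥ x)) := by
    rw [← mul_sub, inv_mul_cancel₀ (sub_ne_zero.mpr hne)]
  rw [h2, ofAdd_sub, map_div, h1, div_self']

omit [Fintype l] [Fintype F] in
theorem sym_mem (i j : l) : Matrix.single i j (1 : F) + Matrix.single j i 1 ∈
    Hm l (RingHom.id F) := by
  rw [mem_Hm_iff]
  intro x y
  simp only [RingHom.id_apply, Matrix.add_apply, Matrix.single_apply]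
  rw [add_comm]
  congr 1 <;> simp only [and_comm]

variable {V : Type*} [AddCommGroup V] [Module K V] [FiniteDimensional K V]

omit [Fintype F] [FiniteDimensional K V] in
/-- transport of weights by a Levi element -/
theorem wt_cong {σ : F →+* F} (hσ : ∀ x, σ (σ x) = x) (ψ : Multiplicative F →* Kˣ)
    {G : Type*} [Group G] (τ : G →* Module.End K V) (j : Multiplicative (Hm l σ) →* G)
    (g : Matrix l l F) (hg : g.det ≠ 0) (L : G)
    (hL : ∀ a : Hm l σ, L * j (Multiplicative.ofAdd a) = j (Multiplicative.ofAdd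
        ⟨(g⁻¹).map σ * a.1 * (g⁻¹)ᵀ, act_mem hσ _ _ a.2⟩) * L)
    (S : Matrix l l F) (hS : wt (τ.comp j) (chi σ ψ S) ≠ ⊥) :
    wt (τ.comp j) (chi σ ψ (cong σ g S)) ≠ ⊥ := by
  have hunit : IsUnit g.det := isUnit_iff_ne_zero.mpr hg
  have hgi : g * g⁻¹ = 1 := mul_nonsing_inv g hunit
  have hgi2 : g⁻¹ * g = 1 := nonsing_inv_mul g hunit
  have hLinj : Function.Injective (τ L : V →ₗ[K] V) := by
    intro v w h
    have h1 : τ L⁻¹ (τ L v) = τ L⁻¹ (τ L w) := by rw [h]
    rw [← Module.End.mul_apply, ← Module.End.mul_apply, ← map_mul, inv_mul_cancel,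
      map_one] at h1
    exact h1
  refine wt_map_ne_bot (τ.comp j) (τ L) hLinj
    (fun a => Multiplicative.ofAdd ⟨(g⁻¹).map σ * (Multiplicative.toAdd a).1 * (g⁻¹)ᵀ,
      act_mem hσ _ _ (Multiplicative.toAdd a).2⟩) ?_ ?_ (chi σ ψ S) _ ?_ hS
  · intro a v
    rw [MonoidHom.comp_apply, MonoidHom.comp_apply, ← Module.End.mul_apply,
      ← Module.End.mul_apply, ← map_mul, ← map_mul]
    have := hL (Multiplicative.toAdd a)
    rw [ofAdd_toAdd] at this
    rw [this]
  · intro a
    refine ⟨Multiplicative.ofAdd ⟨g.map σ * (Multiplicative.toAdd a).1 * gᵀ,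
      act_mem hσ _ _ (Multiplicative.toAdd a).2⟩, ?_⟩
    apply Multiplicative.toAdd.injective
    apply Subtype.ext
    simp only [toAdd_ofAdd]
    have h2 : gᵀ * (g⁻¹)ᵀ = 1 := by rw [← transpose_mul, hgi2, transpose_one]
    have h3 : (g⁻¹).map σ * g.map σ = 1 := by
      rw [← Matrix.map_mul, hgi2, Matrix.map_one _ (map_zero σ) (map_one σ)]
    calc (g⁻¹).map σ * (g.map σ * (Multiplicative.toAdd a).1 * gᵀ) * (g⁻¹)ᵀ
        = ((g⁻¹).map σ * g.map σ) * (Multiplicative.toAdd a).1 * (gᵀ * (g⁻¹)ᵀ) := by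
          simp only [mul_assoc]
      _ = (Multiplicative.toAdd a).1 := by rw [h2, h3, one_mul, mul_one]
  · intro a
    rw [chi_apply, chi_apply, toAdd_ofAdd]
    congr 2
    simp only
    have h2 : (g⁻¹)ᵀ * gᵀ = 1 := by rw [← transpose_mul, hgi, transpose_one]
    have h3 : g.map σ * (g⁻¹).map σ = 1 := by
      rw [← Matrix.map_mul, hgi, Matrix.map_one _ (map_zero σ) (map_one σ)]
    calc (cong σ g S * ((g⁻¹).map σ * (Multiplicative.toAdd a).1 * (g⁻¹)ᵀ)).trace
        = ((gᵀ * S * (g.map σ * (g⁻¹).map σ) * (Multiplicative.toAdd a).1) *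
            (g⁻¹)ᵀ).trace := by
          rw [cong]; simp only [mul_assoc]
      _ = ((g⁻¹)ᵀ * (gᵀ * S * (Multiplicative.toAdd a).1)).trace := by
          rw [h3, mul_one, trace_mul_comm]
      _ = (((g⁻¹)ᵀ * gᵀ) * (S * (Multiplicative.toAdd a).1)).trace := by
          simp only [mul_assoc]
      _ = (S * (Multiplicative.toAdd a).1).trace := by rw [h2, one_mul]

omit [Fintype F] in
/-- the Levi subgroup of the Siegel parabolic -/
theorem exists_levi (hσ : ∀ x, (RingHom.id F) ((RingHom.id F) x) = x) (g : Matrix l l F)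
    (hg : g.det ≠ 0) : ∃ L : symplecticGroup l F,
      ∀ a : Hm l (RingHom.id F), L * LSSp.unip l F (Multiplicative.ofAdd a) =
        LSSp.unip l F (Multiplicative.ofAdd
          ⟨(g⁻¹).map (RingHom.id F) * a.1 * (g⁻¹)ᵀ, act_mem hσ _ _ a.2⟩) * L := by
  have hunit : IsUnit g.det := isUnit_iff_ne_zero.mpr hg
  have hgi : (g⁻¹).det ≠ 0 := by
    rw [det_nonsing_inv]
    simpa using hg
  have h5 := LSSp.levi_mem (g⁻¹) hgi
  rw [nonsing_inv_nonsing_inv g hunit] at h5
  refine ⟨⟨fromBlocks g⁻¹ 0 0 gᵀ, h5⟩, ?_⟩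
  intro a
  apply Subtype.ext
  simp only [Submonoid.coe_mul, LSSp.unip_coe, toAdd_ofAdd, fromBlocks_multiply]
  have h6 : (g⁻¹)ᵀ * gᵀ = 1 := by rw [← transpose_mul, mul_nonsing_inv g hunit, transpose_one]
  have h7 : (g⁻¹).map (RingHom.id F) = g⁻¹ := by ext i j; simp
  rw [h7]
  simp [mul_assoc, h6]

omit [DecidableEq l] [Fintype l] in
/-- enough roots of unity -/
theorem roots (σ : F →+* F) [IsAlgClosed K] (hp : (Fintype.card F : K) ≠ 0) :
    HasEnoughRootsOfUnity K (Monoid.exponent (Multiplicative F)) ∧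
    HasEnoughRootsOfUnity K (Monoid.exponent (Multiplicative (Hm l σ))) := by
  have hprime : Fact (ringChar F).Prime := ⟨CharP.char_is_prime F (ringChar F)⟩
  have hpK : ((ringChar F : ℕ) : K) ≠ 0 := ringChar_ne_zero hp
  have hexpA : Monoid.exponent (Multiplicative (Hm l σ)) ∣ ringChar F :=
    exponent_Hm _
  have hexpF : Monoid.exponent (Multiplicative F) ∣ ringChar F := by
    apply Monoid.exponent_dvd_of_forall_pow_eq_one
    intro a
    apply Multiplicative.toAdd.injective
    rw [toAdd_pow, toAdd_one, nsmul_eq_mul, CharP.cast_eq_zero, zero_mul]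
  have hne : ∀ k : ℕ, k ∣ ringChar F → NeZero ((k : ℕ) : K) := by
    intro k hk
    refine ⟨fun h0 => hpK ?_⟩
    obtain ⟨c, hc⟩ := hk
    rw [hc, Nat.cast_mul, h0, zero_mul]
  have := hne _ hexpA
  have := hne _ hexpF
  exact ⟨inferInstance, inferInstance⟩

/-- the element with off-diagonal entries -/
def offd (i j : l) : Multiplicative (Hm l (RingHom.id F)) :=
  Multiplicative.ofAdd ⟨Matrix.single i j (1 : F) + Matrix.single j i 1, sym_mem i j⟩

theorem lower_aux [CharP F 2] [DecidableEq F] [IsAlgClosed K] (hp : (Fintype.card F : K) ≠ 0)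
    {m : ℕ} (hm : Fintype.card l = m + 2) (τ : symplecticGroup l F →* Module.End K V) (i j : l)
    (hτ : τ (LSSp.unip l F (offd i j)) ≠ 1) :
    (Fintype.card F ^ (m + 2) - 1) * (Fintype.card F ^ (m + 2) - Fintype.card F) ≤
      Module.finrank K V * (2 * (Fintype.card F + 1)) := by
  classical
  have hσ : ∀ x, (RingHom.id F) ((RingHom.id F) x) = x := fun x => rfl
  obtain ⟨hr1, hr2⟩ := roots (K := K) (l := l) (RingHom.id F) hp
  have hfinM : Finite (Matrix l l F) := by
    have : Finite (l → l → F) := inferInstance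
    exact this
  have hfin : Finite (Multiplicative (Hm l (RingHom.id F))) := inferInstance
  have hcardA : (Nat.card (Multiplicative (Hm l (RingHom.id F))) : K) ≠ 0 :=
    card_Hm_ne_zero _ hp
  obtain ⟨ψ, hψ⟩ := CommGroup.exists_apply_ne_one_of_hasEnoughRootsOfUnity (Multiplicative F) K
    (a := Multiplicative.ofAdd (1 : F)) (by
      intro h
      exact one_ne_zero (Multiplicative.ofAdd.injective (h.trans ofAdd_zero.symm)))
  set ρ := τ.comp (LSSp.unip l F) with hρ
  obtain ⟨χ0, hχ0, hχ0b⟩ := exists_weight hcardA ρ (offd i j) hτ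
  obtain ⟨S0, hS0⟩ := chi_surj hp ψ hψ χ0
  -- the set of quadratic forms
  let Os : Set ((l → F) → F) := {Q | ∃ S : Matrix l l F, (∀ x, Q x = x ⬝ᵥ (S *ᵥ x)) ∧
    wt ρ (chi (RingHom.id F) ψ S) ≠ ⊥}
  have hOf : Os.Finite := Set.toFinite _
  let O : Finset ((l → F) → F) := hOf.toFinset
  have hO : ∀ Q, Q ∈ O ↔ ∃ S : Matrix l l F, (∀ x, Q x = x ⬝ᵥ (S *ᵥ x)) ∧
    wt ρ (chi (RingHom.id F) ψ S) ≠ ⊥ := fun Q => hOf.mem_toFinset
  have h1 := LSQuad.count hm O (fun Q hQ => by
      obtain ⟨S, hS, _⟩ := (hO Q).mp hQ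
      exact ⟨S, hS⟩) ?_ (fun x => x ⬝ᵥ (S0 *ᵥ x)) ((hO _).mpr ⟨S0, fun x => rfl, by
        rw [hS0]; exact hχ0⟩) (Pi.single i 1) (Pi.single j 1) ?_
  · refine h1.trans (Nat.mul_le_mul_right _ ?_)
    -- injection into the characters
    let S : ((l → F) → F) → Matrix l l F := fun Q =>
      if h : Q ∈ O then ((hO Q).mp h).choose else 0
    have hS : ∀ Q ∈ O, (∀ x, Q x = x ⬝ᵥ (S Q *ᵥ x)) ∧ wt ρ (chi (RingHom.id F) ψ (S Q)) ≠ ⊥ := by
      intro Q hQ
      have := ((hO Q).mp hQ).choose_spec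
      simp only [S, dif_pos hQ]
      exact this
    have h2 := card_le (K := K) hcardA ρ (O.image (fun Q => chi (RingHom.id F) ψ (S Q))) 1 (by
      intro χ hχ
      rw [Finset.mem_image] at hχ
      obtain ⟨Q, hQ, rfl⟩ := hχ
      exact one_le_finrank _ (hS Q hQ).2)
    rw [mul_one, Finset.card_image_of_injOn] at h2
    · exact h2
    · intro Q hQ Q' hQ' h
      ext x
      rw [(hS Q hQ).1 x, (hS Q' hQ').1 x]
      exact quad_eq ψ hψ _ _ h x
  · -- closed under congruence
    intro Q hQ g hg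
    rw [hO] at hQ ⊢
    obtain ⟨S, hS1, hS2⟩ := hQ
    refine ⟨gᵀ * S * g, ?_, ?_⟩
    · intro x
      rw [hS1, ← mulVec_mulVec, ← mulVec_mulVec, dotProduct_mulVec x gᵀ, vecMul_transpose]
    · obtain ⟨L, hL⟩ := exists_levi hσ g hg
      have h3 := wt_cong hσ ψ τ (LSSp.unip l F) g hg L hL S hS2
      have h4 : cong (RingHom.id F) g S = gᵀ * S * g := by
        rw [cong]
        congr 1
      rw [h4] at h3
      exact h3
  · -- nonzero polar form
    intro h0
    apply hχ0b
    rw [← hS0, chi_apply, offd, toAdd_ofAdd]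
    have h3 : (S0 * (Matrix.single i j (1 : F) + Matrix.single j i 1)).trace =
        LSQuad.Bq (fun x => x ⬝ᵥ (S0 *ᵥ x)) (Pi.single i 1) (Pi.single j 1) := by
      rw [LSQuad.Bq, mul_add, trace_add, trace_mul_single, trace_mul_single, mulVec_add,
        add_dotProduct, dotProduct_add, dotProduct_add]
      simp only [mulVec_single_one, single_one_dotProduct, col_apply]
      simp
      ring
    rw [h3, h0, ofAdd_zero, map_one]

theorem card_even [CharP F 2] : Even (Fintype.card F) := by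
  have h1 : (2 : ℕ) ∣ Fintype.card F :=
    (CharP.cast_eq_zero_iff F 2 (Fintype.card F)).mp (FiniteField.cast_card_eq_zero F)
  exact even_iff_two_dvd.mpr h1

theorem isSimple [CharP F 2] (hl : 2 ≤ Fintype.card l)
    (hex : 3 ≤ Fintype.card l ∨ 3 ≤ Fintype.card F) : IsSimpleGroup (symplecticGroup l F) := by
  have hne : Nonempty l := Fintype.card_pos_iff.mp (by omega)
  have hperf := H6.SympPerfect.commutator_eq_top (F := F) (l := l) (by
    rcases hex with h | h
    · exact Or.inl h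
    · exact Or.inr (Or.inl ⟨hl, h⟩))
  have h1 := H6.SympSimple.isSimpleGroup hl hperf
  have hfin : Finite (symplecticGroup l F) := by
    have : Finite (Matrix (l ⊕ l) (l ⊕ l) F) := by
      have : Finite ((l ⊕ l) → (l ⊕ l) → F) := inferInstance
      exact this
    infer_instance
  have h2 : Subgroup.center (symplecticGroup l F) = ⊥ := by
    rw [← Subgroup.card_eq_one, H6.SympPerfect.card_center]
    have h3 := card_even (F := F)
    have h4 : 0 < Fintype.card F := Fintype.card_pos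
    rw [← Nat.coprime_iff_gcd_eq_one, Nat.coprime_two_left, Nat.odd_iff]
    rw [Nat.even_iff] at h3
    omega
  exact (((QuotientGroup.quotientMulEquivOfEq h2).trans
    QuotientGroup.quotientBot).isSimpleGroup_congr).mp h1

/-- The Landazuri–Seitz bound for symplectic groups in characteristic two. -/
theorem lower [CharP F 2] [DecidableEq F] [IsAlgClosed K] (hp : (Fintype.card F : K) ≠ 0)
    {m : ℕ} (hm : Fintype.card l = m + 2) (hex : 1 ≤ m ∨ 3 ≤ Fintype.card F)
    (τ : symplecticGroup l F →* Module.End K V) (hτ : ∃ g, τ g ≠ 1) :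
    (Fintype.card F ^ (m + 2) - 1) * (Fintype.card F ^ (m + 2) - Fintype.card F) ≤
      Module.finrank K V * (2 * (Fintype.card F + 1)) := by
  have hs := isSimple (F := F) (l := l) (by omega) (by omega)
  have hker : τ.ker = ⊥ := by
    rcases hs.eq_bot_or_eq_top_of_normal τ.ker inferInstance with h | h
    · exact h
    · exfalso
      obtain ⟨g, hg⟩ := hτ
      apply hg
      have : g ∈ τ.ker := by rw [h]; trivial
      exact this
  obtain ⟨i, j, hij⟩ : ∃ i j : l, i ≠ j := by
    have : Nontrivial l := Fintype.one_lt_card_iff_nontrivial.mp (by omega)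
    exact exists_pair_ne l
  refine lower_aux hp hm τ i j ?_
  intro h
  have h1 : LSSp.unip l F (offd i j) ∈ τ.ker := h
  rw [hker, Subgroup.mem_bot] at h1
  have h2 := congrArg Subtype.val h1
  have h3 := congrFun (congrFun h2 (Sum.inl i)) (Sum.inr j)
  rw [LSSp.unip_coe, fromBlocks_apply₁₂, offd, toAdd_ofAdd] at h3
  have h4 : (1 : symplecticGroup l F).1 (Sum.inl i) (Sum.inr j) = 0 := by
    change (1 : Matrix (l ⊕ l) (l ⊕ l) F) (Sum.inl i) (Sum.inr j) = 0
    rw [one_apply_ne]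
    exact Sum.inl_ne_inr
  rw [h4] at h3
  simp [hij, Ne.symm hij] at h3

end H44.LSSpEven
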