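import Cfsg.Agent.Lib.H44.LSVec
import Cfsg.Agent.Lib.H44.LSSpEven

/-! All nontrivial characters of a vector group appear when a transitive group of operators
normalises it; the corresponding bound with multiplicities; a bound for spaces with many
`q`-commuting operators. -/

set_option autoImplicit false

open Matrix H44.LSLinear H44.LSForms H44.LSWeights H44.LSBound

namespace H44.LSVec

variable {F : Type*} [Field F] {ι : Type*} [Fintype ι]
variable {K : Type*} [Field K]
variable {V : Type*} [AddCommGroup V] [Module K V] {G : Type*} [Group G]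

theorem exists_all [Fintype F] [IsAlgClosed K] (hp : (Fintype.card F : K) ≠ 0)
    (τ : G →* Module.End K V) (j : Multiplicative (ι → F) →* G)
    (hlevi : ∀ f f' : ι → F, f ≠ 0 → f' ≠ 0 → ∃ (g : Matrix ι ι F) (L : G), gᵀ *ᵥ f' = f ∧
      (∀ a : ι → F, L * j (Multiplicative.ofAdd a) = j (Multiplicative.ofAdd (g *ᵥ a)) * L) ∧
      (∀ a : ι → F, ∃ b, g *ᵥ b = a))
    (b : Multiplicative (ι → F)) (hb : τ (j b) ≠ 1) :
    ∃ ψ : Multiplicative F →* Kˣ, ψ (Multiplicative.ofAdd 1) ≠ 1 ∧
      ∀ f : ι → F, f ≠ 0 → wt (τ.comp j) (vchi ψ f) ≠ ⊥ := by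
  classical
  have hcardA : (Nat.card (Multiplicative (ι → F)) : K) ≠ 0 := by
    rw [Nat.card_eq_fintype_card, Fintype.card_multiplicative, Fintype.card_fun, Nat.cast_pow]
    exact pow_ne_zero _ hp
  obtain ⟨hr, _⟩ := LSSpEven.roots (K := K) (l := ι) (RingHom.id F) hp
  obtain ⟨ψ, hψ⟩ := CommGroup.exists_apply_ne_one_of_hasEnoughRootsOfUnity (Multiplicative F) K
    (a := Multiplicative.ofAdd (1 : F)) (by
      intro h
      exact one_ne_zero (Multiplicative.ofAdd.injective (h.trans ofAdd_zero.symm)))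
  obtain ⟨hsurj, henough⟩ := LSSpEven.vchi_surj (ι := ι) hp ψ hψ
  obtain ⟨χ0, hχ0, hχ0b⟩ := exists_weight hcardA (τ.comp j) b hb
  obtain ⟨f0, hf0⟩ := hsurj χ0
  simp only at hf0
  have hf0ne : f0 ≠ 0 := by
    rintro rfl
    apply hχ0b
    rw [← hf0, vchi_apply, zero_dotProduct, ofAdd_zero, map_one]
  refine ⟨ψ, hψ, ?_⟩
  intro f hf
  obtain ⟨g, L, hg2, hL, hs⟩ := hlevi f0 f hf0ne hf
  have hLinj : Function.Injective (τ L : V →ₗ[K] V) := by
    intro v w h
    have h1 : τ L⁻¹ (τ L v) = τ L⁻¹ (τ L w) := by rw [h]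
    rw [← Module.End.mul_apply, ← Module.End.mul_apply, ← map_mul, inv_mul_cancel,
      map_one] at h1
    exact h1
  refine wt_map_ne_bot (τ.comp j) (τ L) hLinj
    (fun a => Multiplicative.ofAdd (g *ᵥ (Multiplicative.toAdd a))) ?_ ?_ (vchi ψ f0) _ ?_
    (by rw [hf0]; exact hχ0)
  · intro a v
    rw [MonoidHom.comp_apply, MonoidHom.comp_apply, ← Module.End.mul_apply,
      ← Module.End.mul_apply, ← map_mul, ← map_mul]
    have := hL (Multiplicative.toAdd a)
    rw [ofAdd_toAdd] at this
    rw [this]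
  · intro a
    obtain ⟨c, hc⟩ := hs (Multiplicative.toAdd a)
    refine ⟨Multiplicative.ofAdd c, ?_⟩
    simp only [toAdd_ofAdd, hc, ofAdd_toAdd]
  · intro a
    rw [vchi_apply, vchi_apply, toAdd_ofAdd, dotProduct_mulVec, ← mulVec_transpose, hg2]

theorem lower_mult [Fintype F] [IsAlgClosed K] [FiniteDimensional K V]
    (hp : (Fintype.card F : K) ≠ 0) (τ : G →* Module.End K V) (j : Multiplicative (ι → F) →* G)
    (ψ : Multiplicative F →* Kˣ) (hψ : ψ (Multiplicative.ofAdd 1) ≠ 1) (d : ℕ)
    (hall : ∀ f : ι → F, f ≠ 0 → d ≤ Module.finrank K (wt (τ.comp j) (vchi ψ f))) :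
    (Fintype.card F ^ Fintype.card ι - 1) * d ≤ Module.finrank K V := by
  classical
  have hcardA : (Nat.card (Multiplicative (ι → F)) : K) ≠ 0 := by
    rw [Nat.card_eq_fintype_card, Fintype.card_multiplicative, Fintype.card_fun, Nat.cast_pow]
    exact pow_ne_zero _ hp
  have h3 := card_le (K := K) hcardA (τ.comp j)
    ((Finset.univ.erase (0 : ι → F)).image (vchi ψ)) d (by
      intro χ hχ
      rw [Finset.mem_image] at hχ
      obtain ⟨f, hf, rfl⟩ := hχ
      exact hall f (Finset.ne_of_mem_erase hf))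
  rw [Finset.card_image_of_injective _ (fun f g h => vchi_inj ψ hψ h),
    Finset.card_erase_of_mem (Finset.mem_univ _), Finset.card_univ, Fintype.card_fun] at h3
  exact h3

/-- conjugation by an invertible operator -/
def cj (U U' : Module.End K V) : Module.End K (Module.End K V) where
  toFun X := U * X * U'
  map_add' X Y := by rw [mul_add, add_mul]
  map_smul' c X := by rw [mul_smul_comm, smul_mul_assoc]; rfl

theorem cj_apply (U U' X : Module.End K V) : cj U U' X = U * X * U' := rfl

/-- A nonzero space with a family of operators commuting up to scalars has dimension at least the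
square root of the number of distinct characters. -/
theorem heis_bound {B : Type*} [CommGroup B] [Finite B] (hB : (Nat.card B : K) ≠ 0)
    [FiniteDimensional K V] (W : Submodule K V)
    (C : B →* Module.End K (Module.End K W)) {I : Type*} [Finite I] (T : I → Module.End K W)
    (hT : ∀ i, T i ≠ 0) (θ : I → (B →* Kˣ)) (hCT : ∀ b i, C b (T i) = ((θ i b : Kˣ) : K) • T i)
    (n N : ℕ) (hN : n ≤ Nat.card I)
    (hθ : ∀ χ, Nat.card {i : I // θ i = χ} ≤ N) : n ≤ (Module.finrank K W) ^ 2 * N := by
  classical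
  have : Fintype I := Fintype.ofFinite I
  have h1 := card_le (K := K) (V := Module.End K W) hB C (Finset.univ.image θ) 1 (by
    intro χ hχ
    rw [Finset.mem_image] at hχ
    obtain ⟨i, _, rfl⟩ := hχ
    apply one_le_finrank
    rw [Submodule.ne_bot_iff]
    exact ⟨T i, fun b => hCT b i, hT i⟩)
  have h2 : Module.finrank K (Module.End K W) = (Module.finrank K W) ^ 2 := by
    rw [Module.finrank_linearMap]
    ring
  rw [mul_one, h2] at h1
  have h3 : (Finset.univ : Finset I).card ≤ N * (Finset.univ.image θ).card := by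
    apply Finset.card_le_mul_card_image
    intro χ _
    refine le_trans (le_of_eq ?_) (hθ χ)
    rw [Nat.card_eq_fintype_card, Fintype.card_subtype]
  rw [Finset.card_univ, ← Nat.card_eq_fintype_card] at h3
  calc n ≤ Nat.card I := hN
    _ ≤ N * (Finset.univ.image θ).card := h3
    _ ≤ N * (Module.finrank K W) ^ 2 := Nat.mul_le_mul_left _ h1
    _ = _ := mul_comm _ _

end H44.LSVec
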