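import Mathlib

/-! Weight spaces of a finite abelian group acting on a vector space over a field containing enough
roots of unity and of characteristic prime to its order. -/

set_option autoImplicit false

namespace H44.LSWeights

variable {K : Type*} [Field K] {V : Type*} [AddCommGroup V] [Module K V]
variable {A : Type*} [CommGroup A]

/-- the weight space of a character -/
def wt (τ : A →* Module.End K V) (χ : A →* Kˣ) : Submodule K V where
  carrier := {v | ∀ a, τ a v = (χ a : K) • v}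
  add_mem' {x y} hx hy := by
    intro a
    rw [map_add, hx a, hy a, smul_add]
  zero_mem' := by intro a; rw [map_zero, smul_zero]
  smul_mem' c x hx := by
    intro a
    rw [map_smul, hx a, smul_comm]

theorem mem_wt {τ : A →* Module.End K V} {χ : A →* Kˣ} {v : V} :
    v ∈ wt τ χ ↔ ∀ a, τ a v = (χ a : K) • v := Iff.rfl

theorem sum_char [Fintype A] (χ : A →* Kˣ) (h : χ ≠ 1) : ∑ a, (χ a : K) = 0 := by
  obtain ⟨b, hb⟩ : ∃ b, χ b ≠ 1 := by
    by_contra hcon
    push Not at hcon
    exact h (MonoidHom.ext hcon)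
  have h1 : ∑ a, (χ a : K) = (χ b : K) * ∑ a, (χ a : K) := by
    rw [Finset.mul_sum, ← Equiv.sum_comp (Equiv.mulLeft b)]
    refine Finset.sum_congr rfl (fun a _ => ?_)
    simp
  have h2 : ((χ b : K) - 1) * ∑ a, (χ a : K) = 0 := by
    rw [sub_mul, one_mul, ← h1, sub_self]
  rcases mul_eq_zero.mp h2 with h3 | h3
  · exfalso
    apply hb
    apply Units.ext
    rw [Units.val_one]
    exact sub_eq_zero.mp h3
  · exact h3

/-- the projection to the weight space -/
noncomputable def proj [Fintype A] (τ : A →* Module.End K V) (χ : A →* Kˣ) : Module.End K V :=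
  ((Fintype.card A : K)⁻¹) • ∑ a, (((χ a)⁻¹ : Kˣ) : K) • τ a

theorem proj_mem [Fintype A] (τ : A →* Module.End K V) (χ : A →* Kˣ) (v : V) :
    proj τ χ v ∈ wt τ χ := by
  intro b
  simp only [proj, LinearMap.smul_apply, LinearMap.sum_apply, map_smul, map_sum]
  rw [smul_comm]
  congr 1
  rw [Finset.smul_sum]
  conv_rhs => rw [← Equiv.sum_comp (Equiv.mulLeft b)]
  refine Finset.sum_congr rfl (fun a _ => ?_)
  simp only [Equiv.coe_mulLeft, map_mul, mul_inv, Units.val_mul, Module.End.mul_apply, smul_smul]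
  congr 1
  rw [← mul_assoc]
  simp

theorem proj_of_mem [Fintype A] (hA : (Fintype.card A : K) ≠ 0) (τ : A →* Module.End K V)
    (χ : A →* Kˣ) {v : V} (hv : v ∈ wt τ χ) : proj τ χ v = v := by
  simp only [proj, LinearMap.smul_apply, LinearMap.sum_apply]
  have : ∀ a ∈ Finset.univ, (((χ a)⁻¹ : Kˣ) : K) • τ a v = v := by
    intro a _
    rw [mem_wt.mp hv a, smul_smul]
    simp
  rw [Finset.sum_congr rfl this, Finset.sum_const, Finset.card_univ, ← Nat.cast_smul_eq_nsmul K,
    smul_smul, inv_mul_cancel₀ hA, one_smul]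

theorem proj_of_mem_ne [Fintype A] (τ : A →* Module.End K V)
    {χ χ' : A →* Kˣ} (hne : χ ≠ χ') {v : V} (hv : v ∈ wt τ χ') : proj τ χ v = 0 := by
  simp only [proj, LinearMap.smul_apply, LinearMap.sum_apply]
  have h1 : ∀ a ∈ Finset.univ, (((χ a)⁻¹ : Kˣ) : K) • τ a v = ((χ⁻¹ * χ') a : K) • v := by
    intro a _
    rw [mem_wt.mp hv a, smul_smul]
    simp
  have h2 : χ⁻¹ * χ' ≠ 1 := by
    intro h
    exact hne (inv_mul_eq_one.mp h)
  rw [Finset.sum_congr rfl h1, ← Finset.sum_smul, sum_char _ h2, zero_smul, smul_zero]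

/-- The dimensions of distinct weight spaces add up to at most the dimension. -/
theorem sum_finrank_le [Finite A] [FiniteDimensional K V] (hA : (Nat.card A : K) ≠ 0)
    (τ : A →* Module.End K V) (S : Finset (A →* Kˣ)) :
    ∑ χ ∈ S, Module.finrank K (wt τ χ) ≤ Module.finrank K V := by
  classical
  have : Fintype A := Fintype.ofFinite A
  rw [Nat.card_eq_fintype_card] at hA
  let f : V →ₗ[K] (∀ χ : S, wt τ χ.1) :=
    LinearMap.pi (fun χ => LinearMap.codRestrict (wt τ χ.1) (proj τ χ.1) (proj_mem τ χ.1))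
  have hf : Function.Surjective f := by
    intro w
    refine ⟨∑ χ : S, (w χ : V), ?_⟩
    ext χ
    change proj τ χ.1 (∑ χ : S, (w χ : V)) = w χ
    rw [map_sum, Finset.sum_eq_single χ]
    · exact proj_of_mem hA τ χ.1 (w χ).2
    · intro χ' _ hne
      exact proj_of_mem_ne τ (fun h => hne (Subtype.ext h.symm)) (w χ').2
    · intro h; exact absurd (Finset.mem_univ _) h
  have h1 := LinearMap.finrank_le_finrank_of_surjective hf
  rw [Module.finrank_pi_fintype] at h1
  rw [← Finset.sum_coe_sort]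
  exact h1

/-- at most `dim V` characters have non-zero weight space -/
theorem card_le [Finite A] [FiniteDimensional K V] (hA : (Nat.card A : K) ≠ 0)
    (τ : A →* Module.End K V) (S : Finset (A →* Kˣ)) (d : ℕ)
    (hS : ∀ χ ∈ S, d ≤ Module.finrank K (wt τ χ)) :
    S.card * d ≤ Module.finrank K V := by
  calc S.card * d = ∑ χ ∈ S, d := by rw [Finset.sum_const, smul_eq_mul]
    _ ≤ ∑ χ ∈ S, Module.finrank K (wt τ χ) := Finset.sum_le_sum hS
    _ ≤ Module.finrank K V := sum_finrank_le hA τ S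

theorem one_le_finrank [FiniteDimensional K V] (W : Submodule K V) (h : W ≠ ⊥) :
    1 ≤ Module.finrank K W := by
  rw [Nat.one_le_iff_ne_zero]
  intro h0
  exact h (Submodule.finrank_eq_zero.mp h0)

/-- The weight spaces span: if `τ a ≠ 1` then some character with non-zero weight space is
nontrivial at `a`. -/
theorem exists_weight [Finite A] [HasEnoughRootsOfUnity K (Monoid.exponent A)]
    (hA : (Nat.card A : K) ≠ 0) (τ : A →* Module.End K V) (b : A) (hb : τ b ≠ 1) :
    ∃ χ : A →* Kˣ, wt τ χ ≠ ⊥ ∧ χ b ≠ 1 := by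
  classical
  have : Fintype A := Fintype.ofFinite A
  have : Finite (A →* Kˣ) := by
    have h := CommGroup.card_monoidHom_of_hasEnoughRootsOfUnity A K
    exact Nat.finite_of_card_ne_zero (by rw [h]; exact Nat.card_pos.ne')
  have : Fintype (A →* Kˣ) := Fintype.ofFinite _
  have hcard : Fintype.card (A →* Kˣ) = Fintype.card A := by
    rw [← Nat.card_eq_fintype_card, CommGroup.card_monoidHom_of_hasEnoughRootsOfUnity,
      Nat.card_eq_fintype_card]
  rw [Nat.card_eq_fintype_card] at hA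
  have hsum : ∑ χ : A →* Kˣ, proj τ χ = 1 := by
    have h1 : ∀ a : A, a ≠ 1 → ∑ χ : A →* Kˣ, (((χ a)⁻¹ : Kˣ) : K) = 0 := by
      intro a ha
      obtain ⟨φ, hφ⟩ := CommGroup.exists_apply_ne_one_of_hasEnoughRootsOfUnity A K ha
      have h2 : ∑ χ : A →* Kˣ, (((χ a)⁻¹ : Kˣ) : K) =
          (((φ a)⁻¹ : Kˣ) : K) * ∑ χ : A →* Kˣ, (((χ a)⁻¹ : Kˣ) : K) := by
        rw [Finset.mul_sum, ← Equiv.sum_comp (Equiv.mulLeft φ)]
        refine Finset.sum_congr rfl (fun χ _ => ?_)
        simp [mul_comm]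
      have h3 : ((((φ a)⁻¹ : Kˣ) : K) - 1) * ∑ χ : A →* Kˣ, (((χ a)⁻¹ : Kˣ) : K) = 0 := by
        rw [sub_mul, one_mul, ← h2, sub_self]
      rcases mul_eq_zero.mp h3 with h4 | h4
      · exfalso
        apply hφ
        have h5 : (φ a)⁻¹ = 1 := Units.ext (by rw [Units.val_one]; exact sub_eq_zero.mp h4)
        exact inv_eq_one.mp h5
      · exact h4
    simp only [proj]
    rw [← Finset.smul_sum, Finset.sum_comm]
    have h6 : ∀ a : A, ∑ χ : A →* Kˣ, (((χ a)⁻¹ : Kˣ) : K) • τ a =
        if a = 1 then (Fintype.card A : K) • (1 : Module.End K V) else 0 := by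
      intro a
      rw [← Finset.sum_smul]
      split_ifs with h
      · subst h
        simp [hcard]
      · rw [h1 a h, zero_smul]
    simp only [h6]
    rw [Finset.sum_ite_eq' Finset.univ (1 : A), if_pos (Finset.mem_univ _), smul_smul,
      inv_mul_cancel₀ hA, one_smul]
  by_contra hcon
  push Not at hcon
  apply hb
  have h7 : ∀ χ : A →* Kˣ, τ b * proj τ χ = proj τ χ := by
    intro χ
    ext v
    have h8 := proj_mem τ χ v
    by_cases h9 : wt τ χ = ⊥
    · rw [h9, Submodule.mem_bot] at h8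
      rw [Module.End.mul_apply, h8, map_zero]
    · rw [Module.End.mul_apply, h8 b, hcon χ h9, Units.val_one, one_smul]
  calc τ b = τ b * ∑ χ : A →* Kˣ, proj τ χ := by rw [hsum, mul_one]
    _ = ∑ χ : A →* Kˣ, proj τ χ := by rw [Finset.mul_sum]; exact Finset.sum_congr rfl (fun χ _ => h7 χ)
    _ = 1 := hsum

/-- transport of weight spaces by an operator normalising the action -/
theorem wt_map_ne_bot (τ : A →* Module.End K V) (g : V →ₗ[K] V) (hg : Function.Injective g)
    (α : A → A) (hα : ∀ a v, g (τ a v) = τ (α a) (g v)) (hαs : Function.Surjective α)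
    (χ χ' : A →* Kˣ) (hχ : ∀ a, χ' (α a) = χ a) (h : wt τ χ ≠ ⊥) : wt τ χ' ≠ ⊥ := by
  rw [Submodule.ne_bot_iff] at h ⊢
  obtain ⟨v, hv, hv0⟩ := h
  refine ⟨g v, ?_, fun h0 => hv0 (hg (by rw [h0, map_zero]))⟩
  intro b
  obtain ⟨a, rfl⟩ := hαs b
  rw [← hα, hv a, map_smul, hχ]

end H44.LSWeights
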