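import Mathlib
import Cfsg.Agent.Lib.H15.MH0

/-!
# S4221-X4: uniqueness of the involution of type `(a b)(c d)`
-/

set_option autoImplicit false

namespace H44.MHX4

open H15.MH

universe u v

variable {G : Type u} {α : Type v} [Group G] [MulAction G α]

private theorem sq_one {s : G} (hs : orderOf s = 2) : s * s = 1 := by
  have := pow_orderOf_eq_one s
  rw [hs, pow_two] at this
  exact this

private theorem back {s : G} (hs : orderOf s = 2) {x y : α} (h : s • x = y) : s • y = x := by
  rw [← h, ← mul_smul, sq_one hs, one_smul]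

private theorem ord_conj {s : G} (g : G) (hs : orderOf s = 2) : orderOf (g * s * g⁻¹) = 2 := by
  have : g * s * g⁻¹ = (MulAut.conj g) s := by rw [MulAut.conj_apply]
  rw [this, MulEquiv.orderOf_eq, hs]

theorem unique_x (h : Hyp G α)
    (hu : ∀ a b c d : α, D4 a b c d → ∀ s t : G, orderOf s = 2 → orderOf t = 2 →
      s • a = a → s • b = b → s • c = d → t • a = a → t • b = b → t • c = d → s = t) :
    ∀ a b c d : α, D4 a b c d → ∀ s t : G, orderOf s = 2 → orderOf t = 2 →
      s • a = b → s • c = d → t • a = b → t • c = d → s = t := by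
  intro a b c d hD
  obtain ⟨hab, hac, had, hbc, hbd, hcd⟩ := hD
  have hD1 : D4 a b c d := ⟨hab, hac, had, hbc, hbd, hcd⟩
  have hD2 : D4 c d a b := ⟨hcd, hac.symm, hbc.symm, had.symm, hbd.symm, hab⟩
  obtain ⟨w, w2, wa, wb, wc, wd⟩ := exists_u h hD1
  obtain ⟨w', w'2, w'c, w'd, w'a, w'b⟩ := exists_u h hD2
  -- elements fixing the four points centralise w and w'
  have hcen : ∀ g : G, g • a = a → g • b = b → g • c = c → g • d = d → g * w * g⁻¹ = w := by
    intro g ga gb gc gd
    have ia : g⁻¹ • a = a := by rw [inv_smul_eq_iff, ga]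
    have ib : g⁻¹ • b = b := by rw [inv_smul_eq_iff, gb]
    have ic : g⁻¹ • c = c := by rw [inv_smul_eq_iff, gc]
    apply hu a b c d hD1 _ _ (ord_conj g w2) w2 _ _ _ wa wb wc
    · rw [mul_smul, mul_smul, ia, wa, ga]
    · rw [mul_smul, mul_smul, ib, wb, gb]
    · rw [mul_smul, mul_smul, ic, wc, gd]
  have hcen' : ∀ g : G, g • a = a → g • b = b → g • c = c → g • d = d → g * w' * g⁻¹ = w' := by
    intro g ga gb gc gd
    have ia : g⁻¹ • a = a := by rw [inv_smul_eq_iff, ga]
    have ic : g⁻¹ • c = c := by rw [inv_smul_eq_iff, gc]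
    have id : g⁻¹ • d = d := by rw [inv_smul_eq_iff, gd]
    apply hu c d a b hD2 _ _ (ord_conj g w'2) w'2 _ _ _ w'c w'd w'a
    · rw [mul_smul, mul_smul, ic, w'c, gc]
    · rw [mul_smul, mul_smul, id, w'd, gd]
    · rw [mul_smul, mul_smul, ia, w'a, gb]
  -- w and w' commute
  have hcomm : w' * w * w'⁻¹ = w := by
    have ia : w'⁻¹ • a = b := by rw [inv_smul_eq_iff, w'b]
    have ib : w'⁻¹ • b = a := by rw [inv_smul_eq_iff, w'a]
    have ic : w'⁻¹ • c = c := by rw [inv_smul_eq_iff, w'c]
    apply hu a b c d hD1 _ _ (ord_conj w' w2) w2 _ _ _ wa wb wc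
    · rw [mul_smul, mul_smul, ia, wb, w'b]
    · rw [mul_smul, mul_smul, ib, wa, w'a]
    · rw [mul_smul, mul_smul, ic, wc, w'd]
  have hcm : w' * w = w * w' := by
    have := congrArg (· * w') hcomm
    simpa using this
  have hxx : (w * w') * (w * w') = 1 := by
    calc (w * w') * (w * w') = w * (w' * w) * w' := by group
      _ = w * (w * w') * w' := by rw [hcm]
      _ = (w * w) * (w' * w') := by group
      _ = 1 := by rw [sq_one w2, sq_one w'2, one_mul]
  have key : ∀ s : G, orderOf s = 2 → s • a = b → s • c = d → w * w' = s := by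
    intro s hs sa sc
    have sb := back hs sa
    have sd := back hs sc
    obtain ⟨g, ga, gb, gc, gd, hg⟩ := conj_of_eq h hD1 (u := w * w') (w := s) hxx (sq_one hs)
      (by rw [sa, mul_smul, w'b, wa]) (by rw [sb, mul_smul, w'a, wb])
      (by rw [sc, mul_smul, w'd, wd]) (by rw [sd, mul_smul, w'c, wc])
    have h1 := hcen g ga gb gc gd
    have h2 := hcen' g ga gb gc gd
    rw [← hg]
    calc w * w' = (g * w * g⁻¹) * (g * w' * g⁻¹) := by rw [h1, h2]
      _ = g * (w * w') * g⁻¹ := by group
  intro s t hs ht sa sc ta tc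
  rw [← key s hs sa sc, key t ht ta tc]

end H44.MHX4
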