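import Mathlib
import Cfsg.Agent.Lib.H15.MH0

/-!
# S4221-X8: the hypothesis structure from 4-transitivity
-/

set_option autoImplicit false

namespace H44.MHX8

open H15.MH

/-- four distinct points as an embedding -/
def emb {α : Type*} (a b c d : α) (h : D4 a b c d) : Fin 4 ↪ α where
  toFun := ![a, b, c, d]
  inj' := by
    obtain ⟨h1, h2, h3, h4, h5, h6⟩ := h
    intro i j hij
    fin_cases i <;> fin_cases j <;> simp_all

theorem hyp_of {α : Type*} [Fintype α] [DecidableEq α] (G : Subgroup (Equiv.Perm α))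
    (hG : MulAction.IsMultiplyPretransitive G α 4) (x : Fin 4 ↪ α)
    (hodd : Odd (Nat.card (MulAction.stabilizer G x))) : H15.MH.Hyp G α := by
  have key : ∀ a b c d : α, ∀ h : D4 a b c d, ∀ y : Fin 4 ↪ α, ∃ g : G, g • y 0 = a ∧ g • y 1 = b ∧
      g • y 2 = c ∧ g • y 3 = d := by
    intro a b c d h y
    obtain ⟨g, hg⟩ := hG.exists_smul_eq y (emb a b c d h)
    have h1 : ∀ i, g • y i = emb a b c d h i := by
      intro i
      rw [← hg]
      rfl
    exact ⟨g, h1 0, h1 1, h1 2, h1 3⟩
  constructor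
  · intro a b c d a' b' c' d' h h'
    obtain ⟨g, h0, h1, h2, h3⟩ := key a' b' c' d' h' (emb a b c d h)
    exact ⟨g, h0, h1, h2, h3⟩
  · intro a b c d h g ga gb gc gd
    obtain ⟨k, h0, h1, h2, h3⟩ := key a b c d h x
    have hmem : k⁻¹ * g * k ∈ MulAction.stabilizer G x := by
      rw [MulAction.mem_stabilizer_iff]
      ext i
      change ((k⁻¹ * g * k) • x i) = x i
      fin_cases i
      · change (k⁻¹ * g * k) • x 0 = x 0
        rw [mul_smul, mul_smul, h0, ga, inv_smul_eq_iff, h0]
      · change (k⁻¹ * g * k) • x 1 = x 1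
        rw [mul_smul, mul_smul, h1, gb, inv_smul_eq_iff, h1]
      · change (k⁻¹ * g * k) • x 2 = x 2
        rw [mul_smul, mul_smul, h2, gc, inv_smul_eq_iff, h2]
      · change (k⁻¹ * g * k) • x 3 = x 3
        rw [mul_smul, mul_smul, h3, gd, inv_smul_eq_iff, h3]
    have hord : orderOf (k⁻¹ * g * k) = orderOf g := by
      have : k⁻¹ * g * k = (MulAut.conj k⁻¹) g := by simp
      rw [this, MulEquiv.orderOf_eq]
    rw [← hord]
    have hd : orderOf (⟨k⁻¹ * g * k, hmem⟩ : MulAction.stabilizer G x) ∣ Nat.card (MulAction.stabilizer G x) :=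
      orderOf_dvd_natCard _
    rw [Subgroup.orderOf_mk] at hd
    exact Odd.of_dvd_nat hodd hd

end H44.MHX8
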