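import Mathlib
import Cfsg.Agent.Lib.H44.SSU2

/-! The determinant is onto on the centralizer of a semisimple unitary matrix. -/

set_option autoImplicit false
set_option linter.unusedSectionVars false
set_option linter.style.haveILetI false

namespace H44.SSU

open Polynomial Matrix H49.Unitary Cfsg H46.TyAlg H44.SS

variable {K : Type*} [Field K] [Finite K] {q : ℕ} (hK : Nat.card K = q ^ 2)

section
variable {ι : Type*} [Fintype ι] [DecidableEq ι]

theorem ct_aeval (A : Matrix ι ι K) (u : K[X]) :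
    ct hK (aeval A u) = aeval (ct hK A) (u.map (frob hK)) := by
  unfold ct
  rw [aeval_map, H48.SimMatrix.aeval_transpose]

theorem comm_aeval {A X : Matrix ι ι K} (h : X * A = A * X) (u : K[X]) :
    X * aeval A u = aeval A u * X := by
  induction u using Polynomial.induction_on' with
  | add a b ha hb => rw [map_add, mul_add, add_mul, ha, hb]
  | monomial k c =>
    have h1 : X * A ^ k = A ^ k * X := (Commute.pow_right (show Commute X A from h) k)
    rw [aeval_monomial, Algebra.algebraMap_eq_smul_one, smul_mul_assoc, one_mul, mul_smul_comm,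
      smul_mul_assoc, h1]

theorem det_ct (A : Matrix ι ι K) : (ct hK A).det = A.det ^ q := by
  unfold ct
  rw [Matrix.det_transpose, ← RingHom.mapMatrix_apply, ← RingHom.map_det]
  rfl

/-- the unitary element attached to a polynomial in a unitary matrix -/
theorem exists_z {g₁ : Matrix ι ι K} (hg : ct hK g₁ * g₁ = 1) (u : K[X]) {d : K} (hd : d ≠ 0)
    (hu : (aeval g₁ u).det = d) :
    ∃ z : Matrix ι ι K, ct hK z * z = 1 ∧ z * g₁ = g₁ * z ∧ z.det * d ^ q = d := by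
  set U := aeval g₁ u with hU
  have hUu : IsUnit U := by
    rw [Matrix.isUnit_iff_isUnit_det, hu]; exact hd.isUnit
  obtain ⟨Ui, hUi1, hUi2⟩ : ∃ Ui, U * Ui = 1 ∧ Ui * U = 1 := by
    obtain ⟨a, ha⟩ := hUu
    rw [← ha]
    exact ⟨((a⁻¹ : (Matrix ι ι K)ˣ) : Matrix ι ι K), a.mul_inv, a.inv_mul⟩
  have hg' : g₁ * ct hK g₁ = 1 := mul_eq_one_comm.mp hg
  have hUg : U * g₁ = g₁ * U := (comm_aeval rfl u).symm
  have hUg' : U * ct hK g₁ = ct hK g₁ * U := by
    calc U * ct hK g₁ = (ct hK g₁ * g₁) * (U * ct hK g₁) := by rw [hg, one_mul]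
      _ = ct hK g₁ * (g₁ * U) * ct hK g₁ := by simp only [mul_assoc]
      _ = ct hK g₁ * (U * g₁) * ct hK g₁ := by rw [hUg]
      _ = ct hK g₁ * U * (g₁ * ct hK g₁) := by simp only [mul_assoc]
      _ = _ := by rw [hg', mul_one]
  have hUU : U * ct hK U = ct hK U * U := by
    conv_lhs => rw [hU, ct_aeval, ← hU]
    rw [comm_aeval hUg', ← ct_aeval]
  have hcg : ct hK U * g₁ = g₁ * ct hK U := by
    rw [hU, ct_aeval]
    exact (comm_aeval (by rw [hg, hg']) _).symm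
  have hc1 : ct hK U * ct hK Ui = 1 := by rw [← ct_mul, hUi2, ct_one]
  have hc2 : ct hK Ui * ct hK U = 1 := by rw [← ct_mul, hUi1, ct_one]
  have hcg' : ct hK Ui * g₁ = g₁ * ct hK Ui := by
    calc ct hK Ui * g₁ = ct hK Ui * (g₁ * (ct hK U * ct hK Ui)) := by rw [hc1, mul_one]
      _ = ct hK Ui * (g₁ * ct hK U) * ct hK Ui := by simp only [mul_assoc]
      _ = ct hK Ui * (ct hK U * g₁) * ct hK Ui := by rw [hcg]
      _ = (ct hK Ui * ct hK U) * (g₁ * ct hK Ui) := by simp only [mul_assoc]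
      _ = _ := by rw [hc2, one_mul]
  refine ⟨U * ct hK Ui, ?_, ?_, ?_⟩
  · rw [ct_mul, ct_ct]
    calc Ui * ct hK U * (U * ct hK Ui) = Ui * (ct hK U * U) * ct hK Ui := by simp only [mul_assoc]
      _ = Ui * (U * ct hK U) * ct hK Ui := by rw [hUU]
      _ = (Ui * U) * (ct hK U * ct hK Ui) := by simp only [mul_assoc]
      _ = 1 := by rw [hUi2, hc1, one_mul]
  · calc U * ct hK Ui * g₁ = U * (ct hK Ui * g₁) := by rw [mul_assoc]
      _ = (U * g₁) * ct hK Ui := by rw [hcg', mul_assoc]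
      _ = _ := by rw [hUg, mul_assoc]
  · have h1 := congrArg Matrix.det hc2
    rw [det_mul, det_one, det_ct, det_ct, hu] at h1
    rw [det_mul, hu, det_ct, mul_assoc, h1, mul_one]

end

theorem ct_reindex {ι κ : Type*} [Fintype ι] [DecidableEq ι] [Fintype κ] [DecidableEq κ] (e : ι ≃ κ)
    (M : Matrix ι ι K) : ct hK (Matrix.reindex e e M) = Matrix.reindex e e (ct hK M) := rfl

theorem ct_fromBlocks {m k : ℕ} (A : Matrix (Fin m) (Fin m) K) (D : Matrix (Fin k) (Fin k) K) :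
    ct hK (fromBlocks A 0 0 D) = fromBlocks (ct hK A) 0 0 (ct hK D) := by
  unfold ct
  rw [fromBlocks_map, fromBlocks_transpose, Matrix.map_zero _ (map_zero _),
    Matrix.map_zero _ (map_zero _), transpose_zero, transpose_zero]

theorem reindex_mul {ι κ : Type*} [Fintype ι] [DecidableEq ι] [Fintype κ] [DecidableEq κ] (e : ι ≃ κ)
    (M N : Matrix ι ι K) :
    Matrix.reindex e e (M * N) = Matrix.reindex e e M * Matrix.reindex e e N :=
  map_mul (Matrix.reindexAlgEquiv K K e) M N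

theorem reindex_one {ι κ : Type*} [Fintype ι] [DecidableEq ι] [Fintype κ] [DecidableEq κ] (e : ι ≃ κ) :
    Matrix.reindex e e (1 : Matrix ι ι K) = 1 :=
  map_one (Matrix.reindexAlgEquiv K K e)

theorem reindex_pow {ι κ : Type*} [Fintype ι] [DecidableEq ι] [Fintype κ] [DecidableEq κ] (e : ι ≃ κ)
    (M : Matrix ι ι K) (N : ℕ) :
    Matrix.reindex e e (M ^ N) = Matrix.reindex e e M ^ N :=
  map_pow (Matrix.reindexAlgEquiv K K e) M N

include hK in
/-- **the determinant on the centralizer in `GU`** -/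
theorem exists_central (p : ℕ) [Fact p.Prime] [CharP K p] {n : ℕ} (hn : 1 ≤ n)
    (g : Matrix.GeneralLinearGroup (Fin n) K) (hg : g ∈ GU n K q) (hord : (orderOf g).Coprime p)
    {d : K} (hd : d ≠ 0) :
    ∃ w : Matrix.GeneralLinearGroup (Fin n) K, w ∈ GU n K q ∧ w * g = g * w ∧
      (w : Matrix (Fin n) (Fin n) K).det * d ^ q = d := by
  have hgu := (mem_GU hK g).mp hg
  set G := (g : Matrix (Fin n) (Fin n) K) with hG
  obtain ⟨f, hf⟩ : ∃ f, G.charpoly = f := ⟨_, rfl⟩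
  have hst : st hK f = f := by
    rw [← hf, ← charpoly_star hK (mul_eq_one_comm.mp hgu), ct_ct]
  have hfm : f.Monic := hf ▸ Matrix.charpoly_monic G
  have hfn : f.natDegree = n := by
    rw [← hf, Matrix.charpoly_natDegree_eq_dim, Fintype.card_fin]
  have h0 : f.coeff 0 ≠ 0 := by
    intro h0
    have h := Matrix.det_eq_sign_charpoly_coeff G
    rw [hf, h0, mul_zero] at h
    exact H46.TyGL.det_ne_zero g h
  obtain ⟨r, t, f₂, hr, hri, ht, hc, hf2, hsq, hrt, hst2, hrt0, hf20, hff⟩ :=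
    exists_factor hK hfm h0 (by omega) hst
  obtain ⟨m, hm⟩ : ∃ m, (r * t).natDegree = m := ⟨_, rfl⟩
  obtain ⟨k, hk⟩ : ∃ k, f₂.natDegree = k := ⟨_, rfl⟩
  have hmk : m + k = n := by
    rw [← hfn, hff, (hr.mul ht).natDegree_mul hf2, hm, hk]
  obtain ⟨N₁, hN₁, hroot⟩ := root_pow p (hr.mul ht) hrt0 hsq
  obtain ⟨C₁, hC1, hC2, hC3⟩ := exists_companion_norm (hr.mul ht) hm
  have hC4 := hC3 N₁ hroot
  obtain ⟨u, hu⟩ := exists_dm_coprime hr hri ht hc d
  -- the first block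
  have hN1pos : N₁ ≠ 0 := by rintro rfl; exact hN₁ Nat.cast_zero
  let c₁ : Matrix.GeneralLinearGroup (Fin m) K := ⟨C₁, C₁ ^ (N₁ - 1),
    by rw [← pow_succ', Nat.sub_add_cancel (by omega), hC4],
    by rw [← pow_succ, Nat.sub_add_cancel (by omega), hC4]⟩
  have hc1 : (c₁ : Matrix (Fin m) (Fin m) K) = C₁ := rfl
  have hc1N : c₁ ^ N₁ = 1 := by
    apply Units.ext
    rw [Units.val_pow_eq_pow_val, hc1, hC4]; rfl
  obtain ⟨y, hy⟩ := conj_into_GU hK c₁ hN₁ hc1N (by rw [hc1, hC1, hrt])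
  obtain ⟨g₁, hg₁⟩ : ∃ g₁ : Matrix (Fin m) (Fin m) K, g₁ = ((y * c₁ * y⁻¹ : Matrix.GeneralLinearGroup (Fin m) K) : Matrix (Fin m) (Fin m) K) := ⟨_, rfl⟩
  have hg1u : ct hK g₁ * g₁ = 1 := by rw [hg₁]; exact (mem_GU hK _).mp hy
  have hg1c : g₁.charpoly = r * t := by
    rw [hg₁, ← charpoly_gl_conj (isConj_iff.mpr ⟨y, rfl⟩), hc1, hC1]
  have hg1N : g₁ ^ N₁ = 1 := by
    rw [hg₁, ← Units.val_pow_eq_pow_val, conj_pow, hc1N, mul_one, mul_inv_cancel]; rfl
  have hg1d : (aeval g₁ u).det = d := by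
    have h1 : (y : Matrix (Fin m) (Fin m) K) * C₁ = g₁ * y := by
      rw [hg₁, ← Units.val_mul, inv_mul_cancel_right]; rfl
    have h2 := H48.SimMatrix.aeval_conj (A := C₁) (B := g₁) y h1 u
    have h3 := congrArg Matrix.det h2
    rw [det_mul, det_mul] at h3
    have h4 : (y : Matrix (Fin m) (Fin m) K).det ≠ 0 := H46.TyGL.det_ne_zero y
    rw [← hu, ← hC2]
    exact (mul_right_cancel₀ h4 (by rw [← h3]; ring)).symm
  obtain ⟨z₁, hz1, hz2, hz3⟩ := exists_z hK hg1u u hd hg1d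
  -- the second block
  obtain ⟨g₂', hg2u', hg2c, hg2o⟩ := exists_gu hK p hf2 hf20 hst2 hk
  obtain ⟨g₂, hg₂⟩ : ∃ g₂ : Matrix (Fin k) (Fin k) K, g₂ = (g₂' : Matrix (Fin k) (Fin k) K) := ⟨_, rfl⟩
  rw [← hg₂] at hg2c
  have hg2u : ct hK g₂ * g₂ = 1 := by rw [hg₂]; exact (mem_GU hK _).mp hg2u'
  have hg2N : g₂ ^ orderOf g₂' = 1 := by
    rw [hg₂, ← Units.val_pow_eq_pow_val, pow_orderOf_eq_one]; rfl
  -- the whole space
  let e : Fin m ⊕ Fin k ≃ Fin n := finSumFinEquiv.trans (finCongr hmk)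
  set M : Matrix (Fin m ⊕ Fin k) (Fin m ⊕ Fin k) K := Matrix.reindex e.symm e.symm G with hM
  set N : Matrix (Fin m ⊕ Fin k) (Fin m ⊕ Fin k) K := fromBlocks g₁ 0 0 g₂ with hN
  have hMN : M.charpoly = N.charpoly := by
    rw [hM, Matrix.charpoly_reindex, hf, hN, Matrix.charpoly_fromBlocks_zero₁₂, hg1c, hg2c, hff]
  have hMu : ct hK M * M = 1 := by
    rw [hM, ct_reindex, ← reindex_mul, hgu, reindex_one]
  have hNu : ct hK N * N = 1 := by
    rw [hN, ct_fromBlocks, fromBlocks_multiply]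
    simp only [Matrix.mul_zero, Matrix.zero_mul, add_zero, zero_add, hg1u, hg2u, fromBlocks_one]
  obtain ⟨N', hN', hMp, hNp⟩ : ∃ N' : ℕ, (N' : K) ≠ 0 ∧ M ^ N' = 1 ∧ N ^ N' = 1 := by
    refine ⟨orderOf g * (N₁ * orderOf g₂'), ?_, ?_, ?_⟩
    · rw [Nat.cast_mul, Nat.cast_mul]
      exact mul_ne_zero (cast_ne (p := p) hord) (mul_ne_zero hN₁ (cast_ne (p := p) hg2o))
    · rw [hM, ← reindex_pow, pow_mul, hG, ← Units.val_pow_eq_pow_val, pow_orderOf_eq_one,
        Units.val_one, one_pow, reindex_one]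
    · rw [hN, fromBlocks_diagonal_pow, mul_comm (orderOf g), pow_mul, pow_mul, hg1N, one_pow, one_pow,
        mul_comm N₁, mul_assoc, pow_mul, hg2N, one_pow, fromBlocks_one]
  obtain ⟨X', hX⟩ := isConj_of_charpoly hN' hMp hNp hMN
  have hX' : (X' : Matrix (Fin m ⊕ Fin k) (Fin m ⊕ Fin k) K) * M = N * X' := hX
  obtain ⟨Z, hZ1, hZ2⟩ := conj_unitary_matrix hK M N (X' : Matrix (Fin m ⊕ Fin k) (Fin m ⊕ Fin k) K) X'.isUnit hX' hMu hNu
  have hZ1' : Z * ct hK Z = 1 := mul_eq_one_comm.mp hZ1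
  let zz : Matrix (Fin m ⊕ Fin k) (Fin m ⊕ Fin k) K := fromBlocks z₁ 0 0 1
  have hzz1 : ct hK zz * zz = 1 := by
    change ct hK (fromBlocks z₁ 0 0 1) * fromBlocks z₁ 0 0 1 = 1
    rw [ct_fromBlocks, fromBlocks_multiply]
    simp only [Matrix.mul_zero, Matrix.zero_mul, add_zero, zero_add, hz1, ct_one, Matrix.mul_one, fromBlocks_one]
  have hzz2 : zz * N = N * zz := by
    change fromBlocks z₁ 0 0 1 * N = N * fromBlocks z₁ 0 0 1
    rw [hN, fromBlocks_multiply, fromBlocks_multiply]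
    simp only [Matrix.mul_zero, Matrix.zero_mul, add_zero, zero_add, hz2, Matrix.mul_one, Matrix.one_mul]
  have hzz3 : zz.det = z₁.det := by
    change (fromBlocks z₁ 0 0 (1 : Matrix (Fin k) (Fin k) K)).det = z₁.det
    rw [det_fromBlocks_zero₂₁, det_one, mul_one]
  have hZM : M * ct hK Z = ct hK Z * N := by
    calc M * ct hK Z = (ct hK Z * Z) * (M * ct hK Z) := by rw [hZ1, one_mul]
      _ = ct hK Z * (Z * M) * ct hK Z := by simp only [mul_assoc]
      _ = ct hK Z * (N * Z) * ct hK Z := by rw [hZ2]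
      _ = ct hK Z * N * (Z * ct hK Z) := by simp only [mul_assoc]
      _ = _ := by rw [hZ1', mul_one]
  obtain ⟨W, hW⟩ : ∃ W, W = ct hK Z * zz * Z := ⟨_, rfl⟩
  have hW1 : ct hK W * W = 1 := by
    rw [hW, ct_mul, ct_mul, ct_ct]
    calc ct hK Z * (ct hK zz * Z) * (ct hK Z * zz * Z) =
        ct hK Z * ct hK zz * (Z * ct hK Z) * zz * Z := by simp only [mul_assoc]
      _ = ct hK Z * (ct hK zz * zz) * Z := by rw [hZ1', mul_one]; simp only [mul_assoc]
      _ = 1 := by rw [hzz1, mul_one, hZ1]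
  have hW2 : W * M = M * W := by
    rw [hW]
    calc ct hK Z * zz * Z * M = ct hK Z * zz * (Z * M) := by rw [mul_assoc]
      _ = ct hK Z * (zz * N) * Z := by rw [hZ2]; simp only [mul_assoc]
      _ = (ct hK Z * N) * zz * Z := by rw [hzz2]; simp only [mul_assoc]
      _ = _ := by rw [← hZM]; simp only [mul_assoc]
  have hW3 : W.det = z₁.det := by
    have h1 := congrArg Matrix.det hZ1
    rw [det_mul, det_one] at h1
    rw [hW, det_mul, det_mul, hzz3]
    linear_combination z₁.det * h1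
  obtain ⟨V, hV⟩ : ∃ V, V = Matrix.reindex e e W := ⟨_, rfl⟩
  have hV1 : ct hK V * V = 1 := by
    rw [hV, ct_reindex, ← reindex_mul, hW1, reindex_one]
  have hGM : Matrix.reindex e e M = G := by
    rw [hM]
    ext i j
    simp
  refine ⟨⟨V, ct hK V, mul_eq_one_comm.mp hV1, hV1⟩, (mem_GU hK _).mpr hV1, ?_, ?_⟩
  · apply Units.ext
    change V * G = G * V
    rw [hV, ← hGM, ← reindex_mul, ← reindex_mul, hW2]
  · change V.det * d ^ q = d
    rw [hV, Matrix.det_reindex_self, hW3, hz3]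

end H44.SSU
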