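import Cfsg.Agent.Lib.H44.WeilOp

/-! Intertwining operators: the projective Weil representation. -/

set_option autoImplicit false

open Matrix H6.Symp

namespace H44.Weil

variable {F : Type*} [Field F] {l : Type*} [Fintype l] [DecidableEq l]
variable [Fintype F] [DecidableEq F] (ψ : AddChar F ℂ)

/-- `M` intertwines the Heisenberg operators twisted by `g` -/
def Inter (g : Matrix (l ⊕ l) (l ⊕ l) F) (M : Matrix (l → F) (l → F) ℂ) : Prop :=
  ∀ w, M * D ψ w = D ψ (g *ᵥ w) * M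

/-- averaging -/
noncomputable def avg (g : Matrix (l ⊕ l) (l ⊕ l) F) (X : Matrix (l → F) (l → F) ℂ) :
    Matrix (l → F) (l → F) ℂ := ∑ w, D ψ (g *ᵥ w) * X * D ψ (-w)

theorem avg_inter (h2 : (2 : F) ≠ 0) (g : symplecticGroup l F)
    (X : Matrix (l → F) (l → F) ℂ) : Inter ψ g.1 (avg ψ g.1 X) := by
  intro w0
  rw [avg, Finset.sum_mul, Finset.mul_sum, ← Equiv.sum_comp (Equiv.addLeft w0)]
  refine Finset.sum_congr rfl (fun w _ => ?_)
  rw [Equiv.coe_addLeft, mul_assoc (D ψ (g.1 *ᵥ (w0 + w)) * X), D_mul ψ h2, ← mul_assoc,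
    ← mul_assoc, D_mul ψ h2, bf_smul, ← mulVec_add, mul_smul_comm, smul_mul_assoc, smul_mul_assoc]
  have h3 : -(w0 + w) + w0 = -w := by abel
  have h4 : bf (-(w0 + w)) w0 = bf w0 w := by
    rw [bf_neg_left, bf_add_left, bf_self, zero_add, bf_swap w w0, neg_neg]
  rw [h3, h4]

theorem avg_ne_zero (hψ : ψ ≠ 1) (g : symplecticGroup l F) :
    ∃ X, avg ψ g.1 X ≠ 0 := by
  by_contra hcon
  push Not at hcon
  have h1 : ∑ i : l → F, ∑ j : l → F, single j i (1 : ℂ) * avg ψ g.1 (single i j 1) = 0 := by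
    refine Finset.sum_eq_zero (fun i _ => Finset.sum_eq_zero (fun j _ => ?_))
    rw [hcon, mul_zero]
  have h2 : ∀ w : l ⊕ l → F, ∑ i : l → F, ∑ j : l → F,
      single j i (1 : ℂ) * (D ψ (g.1 *ᵥ w) * single i j 1 * D ψ (-w)) =
      (D ψ (g.1 *ᵥ w)).trace • D ψ (-w) := by
    intro w
    rw [Finset.sum_comm]
    have h3 : ∀ j : l → F, ∑ i : l → F, single j i (1 : ℂ) *
        (D ψ (g.1 *ᵥ w) * single i j 1 * D ψ (-w)) =
        single j j ((D ψ (g.1 *ᵥ w)).trace) * D ψ (-w) := by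
      intro j
      have h4 : ∀ i : l → F, single j i (1 : ℂ) * (D ψ (g.1 *ᵥ w) * single i j 1 * D ψ (-w)) =
          single j j (D ψ (g.1 *ᵥ w) i i) * D ψ (-w) := by
        intro i
        rw [← mul_assoc, ← mul_assoc, single_mul_mul_single, one_mul, mul_one]
      rw [Finset.sum_congr rfl (fun i _ => h4 i), ← Finset.sum_mul]
      congr 1
      ext a b
      rw [Matrix.sum_apply]
      simp only [single_apply, trace, diag_apply]
      split_ifs <;> simp
    rw [Finset.sum_congr rfl (fun j _ => h3 j), ← Finset.sum_mul]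
    have h5 : ∑ j : l → F, single j j ((D ψ (g.1 *ᵥ w)).trace) =
        (D ψ (g.1 *ᵥ w)).trace • (1 : Matrix (l → F) (l → F) ℂ) := by
      ext a b
      rw [Matrix.sum_apply, Matrix.smul_apply, one_apply]
      simp only [single_apply]
      by_cases hab : a = b
      · subst hab
        simp
      · rw [if_neg hab, smul_zero]
        apply Finset.sum_eq_zero
        intro j _
        rw [if_neg]
        rintro ⟨rfl, rfl⟩
        exact hab rfl
    rw [h5, smul_mul_assoc, one_mul]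
  have h3 : ∑ i : l → F, ∑ j : l → F, single j i (1 : ℂ) * avg ψ g.1 (single i j 1) =
      ∑ w : l ⊕ l → F, (D ψ (g.1 *ᵥ w)).trace • D ψ (-w) := by
    simp only [avg, Finset.mul_sum]
    rw [← Finset.sum_congr rfl (fun w _ => h2 w)]
    calc ∑ i : l → F, ∑ j : l → F, ∑ w : l ⊕ l → F,
          single j i (1 : ℂ) * (D ψ (g.1 *ᵥ w) * single i j 1 * D ψ (-w))
        = ∑ i : l → F, ∑ w : l ⊕ l → F, ∑ j : l → F,
          single j i (1 : ℂ) * (D ψ (g.1 *ᵥ w) * single i j 1 * D ψ (-w)) :=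
          Finset.sum_congr rfl (fun i _ => Finset.sum_comm)
      _ = _ := Finset.sum_comm
  rw [h1, Finset.sum_eq_single (0 : l ⊕ l → F)] at h3
  · rw [mulVec_zero, neg_zero, D_zero, trace_one] at h3
    have h4 := congrFun (congrFun h3 0) 0
    rw [Matrix.zero_apply, Matrix.smul_apply, one_apply_eq, smul_eq_mul, mul_one] at h4
    have h5 : 0 < Fintype.card (l → F) := Fintype.card_pos
    rw [eq_comm, Nat.cast_eq_zero] at h4
    omega
  · intro w _ hw
    rw [trace_D ψ hψ _ (mulVec_ne_zero g hw), zero_smul]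
  · intro h; exact absurd (Finset.mem_univ _) h

theorem D_mulVec (w : l ⊕ l → F) (f : (l → F) → ℂ) (u : l → F) :
    (D ψ w *ᵥ f) u = ψ (2⁻¹ * (xp w ⬝ᵥ yp w) + yp w ⬝ᵥ u) * f (u + xp w) := by
  rw [mulVec, dotProduct, Finset.sum_eq_single (u + xp w)]
  · rw [D_apply, if_pos rfl]
  · intro b _ hb
    rw [D_apply, if_neg hb, zero_mul]
  · intro h; exact absurd (Finset.mem_univ _) h

theorem isUnit_of_inter (hψ : ψ ≠ 1) (g : Matrix (l ⊕ l) (l ⊕ l) F) (M : Matrix (l → F) (l → F) ℂ)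
    (hM : Inter ψ g M) (hM0 : M ≠ 0) : IsUnit M := by
  rw [isUnit_iff_isUnit_det, isUnit_iff_ne_zero]
  intro hdet
  obtain ⟨v, hv0, hv⟩ := exists_mulVec_eq_zero_iff.mpr hdet
  obtain ⟨u0, hu0⟩ : ∃ u0, v u0 ≠ 0 := Function.ne_iff.mp hv0
  have hinv : ∀ w, M *ᵥ (D ψ w *ᵥ v) = 0 := by
    intro w
    rw [mulVec_mulVec, hM w, ← mulVec_mulVec, hv, mulVec_zero]
  have h1 : M *ᵥ (Pi.single u0 1) = 0 := by
    have h2 : ∑ y : l → F, ψ (-(y ⬝ᵥ u0)) • (D ψ (Sum.elim 0 y) *ᵥ v) =
        ((Fintype.card (l → F) : ℂ) * v u0) • Pi.single u0 1 := by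
      ext u
      rw [Finset.sum_apply, Pi.smul_apply, Pi.single_apply]
      have h3 : ∀ y : l → F, (ψ (-(y ⬝ᵥ u0)) • (D ψ (Sum.elim 0 y) *ᵥ v)) u =
          ψ ((u - u0) ⬝ᵥ y) * v u := by
        intro y
        have hx : xp (Sum.elim 0 y : l ⊕ l → F) = 0 := rfl
        have hy : yp (Sum.elim 0 y : l ⊕ l → F) = y := rfl
        rw [Pi.smul_apply, D_mulVec, hx, hy, zero_dotProduct, mul_zero, add_zero, zero_add,
          smul_eq_mul, ← mul_assoc, ← AddChar.map_add_eq_mul]
        congr 2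
        rw [sub_dotProduct, dotProduct_comm u y, dotProduct_comm u0 y]
        ring
      rw [Finset.sum_congr rfl (fun y _ => h3 y), ← Finset.sum_mul]
      split_ifs with h
      · subst h
        simp
      · rw [sum_char_dot ψ hψ _ (sub_ne_zero.mpr h), zero_mul, smul_zero]
    have h3 : M *ᵥ (∑ y : l → F, ψ (-(y ⬝ᵥ u0)) • (D ψ (Sum.elim 0 y) *ᵥ v)) = 0 := by
      rw [← mulVecLin_apply, map_sum]
      apply Finset.sum_eq_zero
      intro y _
      rw [map_smul, mulVecLin_apply, hinv, smul_zero]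
    rw [h2, mulVec_smul] at h3
    rcases smul_eq_zero.mp h3 with h4 | h4
    · exfalso
      rcases mul_eq_zero.mp h4 with h5 | h5
      · have h6 : 0 < Fintype.card (l → F) := Fintype.card_pos
        rw [Nat.cast_eq_zero] at h5
        omega
      · exact hu0 h5
    · exact h4
  apply hM0
  have h2 : ∀ u, M *ᵥ (Pi.single u 1) = 0 := by
    intro u
    have h3 : D ψ (Sum.elim (u0 - u) 0) *ᵥ (Pi.single u0 1) = Pi.single u 1 := by
      ext z
      have hx : xp (Sum.elim (u0 - u) 0 : l ⊕ l → F) = u0 - u := rfl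
      have hy : yp (Sum.elim (u0 - u) 0 : l ⊕ l → F) = 0 := rfl
      rw [mulVec_single_one, col_apply, D_apply, hx, hy, dotProduct_zero, zero_dotProduct, mul_zero,
        add_zero, AddChar.map_zero_eq_one, Pi.single_apply]
      by_cases hz : z = u
      · rw [if_pos (by rw [hz]; abel), if_pos hz]
      · rw [if_neg, if_neg hz]
        intro h
        apply hz
        have h4 : z + (u0 - u) = u + (u0 - u) := by rw [← h]; abel
        exact add_right_cancel h4
    rw [← h3, mulVec_mulVec, hM, ← mulVec_mulVec, h1, mulVec_zero]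
  ext a b
  have := congrFun (h2 b) a
  rw [mulVec_single_one, col_apply] at this
  exact this

end H44.Weil
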