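import Mathlib
import Cfsg.Agent.Lib.H6.Symp

/-! The Heisenberg operators and the projective Weil representation over a finite field of odd
characteristic. -/

set_option autoImplicit false

open Matrix H6.Symp

namespace H44.Weil

variable {F : Type*} [Field F] {l : Type*}

def xp (w : l ⊕ l → F) : l → F := fun i => w (Sum.inl i)
def yp (w : l ⊕ l → F) : l → F := fun i => w (Sum.inr i)

theorem xp_add (w w' : l ⊕ l → F) : xp (w + w') = xp w + xp w' := rfl
theorem yp_add (w w' : l ⊕ l → F) : yp (w + w') = yp w + yp w' := rfl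
theorem xp_neg (w : l ⊕ l → F) : xp (-w) = -xp w := rfl
theorem yp_neg (w : l ⊕ l → F) : yp (-w) = -yp w := rfl
theorem xp_zero : xp (0 : l ⊕ l → F) = 0 := rfl
theorem yp_zero : yp (0 : l ⊕ l → F) = 0 := rfl

theorem eq_zero_of_parts {w : l ⊕ l → F} (hx : xp w = 0) (hy : yp w = 0) : w = 0 := by
  ext k
  rcases k with k | k
  · exact congrFun hx k
  · exact congrFun hy k

variable [Fintype l] [DecidableEq l]

theorem bf_parts (w w' : l ⊕ l → F) : bf w w' = yp w ⬝ᵥ xp w' - xp w ⬝ᵥ yp w' := by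
  rw [bf_eq_sum, Finset.sum_sub_distrib]
  rfl

variable [Fintype F] [DecidableEq F] (ψ : AddChar F ℂ)

/-- Heisenberg operators -/
noncomputable def D (w : l ⊕ l → F) : Matrix (l → F) (l → F) ℂ :=
  fun u v => if v = u + xp w then ψ (2⁻¹ * (xp w ⬝ᵥ yp w) + yp w ⬝ᵥ u) else 0

omit [Fintype F] [DecidableEq l] in
theorem D_apply (w : l ⊕ l → F) (u v : l → F) :
    D ψ w u v = if v = u + xp w then ψ (2⁻¹ * (xp w ⬝ᵥ yp w) + yp w ⬝ᵥ u) else 0 := rfl

theorem D_mul (h2 : (2 : F) ≠ 0) (w w' : l ⊕ l → F) :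
    D ψ w * D ψ w' = ψ (-(2⁻¹ * bf w w')) • D ψ (w + w') := by
  ext u v
  rw [mul_apply, Matrix.smul_apply, Finset.sum_eq_single (u + xp w)]
  · rw [D_apply, if_pos rfl, D_apply, D_apply]
    by_cases h : v = u + xp w + xp w'
    · rw [if_pos h, if_pos (by rw [h, xp_add, add_assoc]), smul_eq_mul,
        ← AddChar.map_add_eq_mul, ← AddChar.map_add_eq_mul]
      congr 1
      rw [bf_parts]
      simp only [dotProduct_add, add_dotProduct, xp_add, yp_add]
      rw [dotProduct_comm (yp w) (xp w'), dotProduct_comm (yp w') (xp w)]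
      field_simp
      ring
    · rw [if_neg h, if_neg (by rw [xp_add, ← add_assoc]; exact h), smul_zero, mul_zero]
  · intro b _ hb
    rw [D_apply, if_neg hb, zero_mul]
  · intro h; exact absurd (Finset.mem_univ _) h

omit [DecidableEq l] [Fintype F] in
theorem D_zero : D ψ (0 : l ⊕ l → F) = 1 := by
  ext u v
  rw [D_apply, xp_zero, yp_zero, one_apply]
  simp only [add_zero, zero_dotProduct, mul_zero, AddChar.map_zero_eq_one, eq_comm]

theorem D_mul_neg (h2 : (2 : F) ≠ 0) (w : l ⊕ l → F) : D ψ w * D ψ (-w) = 1 := by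
  rw [D_mul ψ h2, bf_neg_right, bf_self, neg_zero, mul_zero, neg_zero, AddChar.map_zero_eq_one,
    one_smul, add_neg_cancel, D_zero]

theorem D_neg_mul (h2 : (2 : F) ≠ 0) (w : l ⊕ l → F) : D ψ (-w) * D ψ w = 1 := by
  have := D_mul_neg ψ h2 (-w)
  rwa [neg_neg] at this

omit [DecidableEq F] [Fintype F] in
theorem char_ne_zero (a : F) : ψ a ≠ 0 := by
  intro h
  have h1 : ψ (a + -a) = 1 := by rw [add_neg_cancel, AddChar.map_zero_eq_one]
  rw [AddChar.map_add_eq_mul, h, zero_mul] at h1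
  exact zero_ne_one h1

omit [DecidableEq F] in
theorem sum_char_dot (hψ : ψ ≠ 1) (y : l → F) (hy : y ≠ 0) : ∑ u : l → F, ψ (y ⬝ᵥ u) = 0 := by
  obtain ⟨i, hi⟩ := Function.ne_iff.mp hy
  obtain ⟨a, ha⟩ : ∃ a, ψ a ≠ 1 := by
    by_contra hcon
    push Not at hcon
    apply hψ
    ext a
    rw [hcon a, AddChar.one_apply]
  let u0 : l → F := Pi.single i ((y i)⁻¹ * a)
  have hu0 : y ⬝ᵥ u0 = a := by
    rw [dotProduct_single, ← mul_assoc, mul_inv_cancel₀ hi, one_mul]
  have h1 : ∑ u : l → F, ψ (y ⬝ᵥ u) = ψ a * ∑ u : l → F, ψ (y ⬝ᵥ u) := by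
    rw [Finset.mul_sum, ← Equiv.sum_comp (Equiv.addLeft u0)]
    refine Finset.sum_congr rfl (fun u _ => ?_)
    rw [Equiv.coe_addLeft, dotProduct_add, AddChar.map_add_eq_mul, hu0]
  have h3 : (ψ a - 1) * ∑ u : l → F, ψ (y ⬝ᵥ u) = 0 := by
    rw [sub_mul, one_mul, ← h1, sub_self]
  rcases mul_eq_zero.mp h3 with h4 | h4
  · exact absurd (sub_eq_zero.mp h4) ha
  · exact h4

theorem trace_D (hψ : ψ ≠ 1) (w : l ⊕ l → F) (hw : w ≠ 0) : (D ψ w).trace = 0 := by
  simp only [trace, diag_apply, D_apply]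
  by_cases hx : xp w = 0
  · have hy : yp w ≠ 0 := fun h => hw (eq_zero_of_parts hx h)
    simp only [hx, add_zero, if_true, zero_dotProduct, mul_zero, zero_add]
    exact sum_char_dot ψ hψ _ hy
  · apply Finset.sum_eq_zero
    intro u _
    rw [if_neg]
    intro h
    exact hx (left_eq_add.mp h)

/-! ### the commutant -/

theorem scalar_of_comm (hψ : ψ ≠ 1) (C : Matrix (l → F) (l → F) ℂ)
    (hC : ∀ w, C * D ψ w = D ψ w * C) : ∃ c : ℂ, C = c • 1 := by
  obtain ⟨a, ha⟩ : ∃ a, ψ a ≠ 1 := by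
    by_contra hcon
    push Not at hcon
    apply hψ
    ext a
    rw [hcon a, AddChar.one_apply]
  refine ⟨C 0 0, ?_⟩
  -- translations
  have h1 : ∀ x u v, C u (v - x) = C (u + x) v := by
    intro x u v
    have h := congrFun (congrFun (hC (Sum.elim x 0)) u) v
    rw [mul_apply, mul_apply] at h
    have hx : xp (Sum.elim x 0 : l ⊕ l → F) = x := rfl
    have hy : yp (Sum.elim x 0 : l ⊕ l → F) = 0 := rfl
    simp only [D_apply, hx, hy, zero_dotProduct, dotProduct_zero, mul_zero, add_zero,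
      AddChar.map_zero_eq_one, mul_ite, mul_one, ite_mul, one_mul, zero_mul,
      Finset.sum_ite_eq', Finset.mem_univ, if_true] at h
    rw [← h, Finset.sum_eq_single (v - x)]
    · rw [if_pos (by abel)]
    · intro b _ hb
      rw [if_neg]
      intro h2
      apply hb
      rw [h2]; abel
    · intro h2; exact absurd (Finset.mem_univ _) h2
  -- multiplications
  have h2 : ∀ y u v, C u v * ψ (y ⬝ᵥ v) = ψ (y ⬝ᵥ u) * C u v := by
    intro y u v
    have h := congrFun (congrFun (hC (Sum.elim 0 y)) u) v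
    rw [mul_apply, mul_apply] at h
    have hx : xp (Sum.elim 0 y : l ⊕ l → F) = 0 := rfl
    have hy : yp (Sum.elim 0 y : l ⊕ l → F) = y := rfl
    simp only [D_apply, hx, hy, zero_dotProduct, mul_zero, add_zero, zero_add,
      mul_ite, ite_mul, zero_mul, Finset.sum_ite_eq, Finset.sum_ite_eq', Finset.mem_univ,
      if_true] at h
    exact h
  ext u v
  rw [Matrix.smul_apply, one_apply, smul_eq_mul, mul_ite, mul_one, mul_zero]
  split_ifs with huv
  · subst huv
    have := h1 u 0 u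
    rw [sub_self, zero_add] at this
    exact this.symm
  · -- off-diagonal
    obtain ⟨i, hi⟩ := Function.ne_iff.mp huv
    have h3 := h2 (Pi.single i ((u i - v i)⁻¹ * a)) u v
    rw [single_dotProduct, single_dotProduct] at h3
    have h4 : (u i - v i)⁻¹ * a * u i = (u i - v i)⁻¹ * a * v i + a := by
      have : u i - v i ≠ 0 := sub_ne_zero.mpr hi
      field_simp
      ring
    rw [h4, AddChar.map_add_eq_mul] at h3
    have h5 : C u v * (ψ ((u i - v i)⁻¹ * a * v i) * (1 - ψ a)) = 0 := by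
      linear_combination h3
    rcases mul_eq_zero.mp h5 with h6 | h6
    · exact h6
    · exfalso
      rcases mul_eq_zero.mp h6 with h7 | h7
      · exact char_ne_zero ψ _ h7
      · exact ha (sub_eq_zero.mp h7).symm

end H44.Weil
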