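import Cfsg.Agent.Lib.H44.WeilInter

/-! The parity operator, its eigenspaces, and the normalised Weil representation. -/

set_option autoImplicit false

open Matrix H6.Symp

namespace H44.Weil

variable {F : Type*} [Field F] {l : Type*} [Fintype l] [DecidableEq l]
variable [Fintype F] [DecidableEq F] (ψ : AddChar F ℂ)

/-- the parity operator -/
def par (X : Type*) [AddCommGroup X] [DecidableEq X] : Matrix X X ℂ :=
  fun u v => if v = -u then 1 else 0

theorem par_apply {X : Type*} [AddCommGroup X] [DecidableEq X] (u v : X) :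
    par X u v = if v = -u then 1 else 0 := rfl

theorem par_mulVec {X : Type*} [AddCommGroup X] [DecidableEq X] [Fintype X] (f : X → ℂ) (u : X) :
    (par X *ᵥ f) u = f (-u) := by
  rw [mulVec, dotProduct, Finset.sum_eq_single (-u)]
  · rw [par_apply, if_pos rfl, one_mul]
  · intro b _ hb
    rw [par_apply, if_neg hb, zero_mul]
  · intro h; exact absurd (Finset.mem_univ _) h

theorem mulVec_ext {X Y : Type*} [Fintype X] [DecidableEq X] {A B : Matrix Y X ℂ}
    (h : ∀ f, A *ᵥ f = B *ᵥ f) : A = B := by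
  ext i j
  have := congrFun (h (Pi.single j 1)) i
  simpa using this

theorem par_mul_par {X : Type*} [AddCommGroup X] [DecidableEq X] [Fintype X] :
    par X * par X = 1 := by
  apply mulVec_ext
  intro f
  ext u
  rw [← mulVec_mulVec, par_mulVec, par_mulVec, neg_neg, one_mulVec]

theorem par_D (w : l ⊕ l → F) : par (l → F) * D ψ w = D ψ (-w) * par (l → F) := by
  apply mulVec_ext
  intro f
  ext u
  rw [← mulVec_mulVec, ← mulVec_mulVec, par_mulVec, D_mulVec, D_mulVec, par_mulVec]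
  simp only [xp_neg, yp_neg, neg_dotProduct, dotProduct_neg, neg_neg, neg_add]

theorem D_par (w : l ⊕ l → F) : D ψ w * par (l → F) = par (l → F) * D ψ (-w) := by
  rw [par_D, neg_neg]

theorem trace_par (h2 : (2 : F) ≠ 0) : (par (l → F)).trace = 1 := by
  simp only [trace, diag_apply, par_apply]
  rw [Finset.sum_eq_single 0]
  · simp
  · intro u _ hu
    rw [if_neg]
    intro h
    apply hu
    have h1 : (2 : F) • u = 0 := by
      rw [two_smul]
      nth_rw 1 [h]
      exact neg_add_cancel u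
    rcases smul_eq_zero.mp h1 with h3 | h3
    · exact absurd h3 h2
    · exact h3
  · intro h; exact absurd (Finset.mem_univ _) h

theorem inter_comm (h2 : (2 : F) ≠ 0) (hψ : ψ ≠ 1) (g : symplecticGroup l F)
    (M : Matrix (l → F) (l → F) ℂ) (hM : Inter ψ g.1 M) (hu : IsUnit M) :
    par (l → F) * M = M * par (l → F) := by
  have hdet : IsUnit M.det := (isUnit_iff_isUnit_det M).mp hu
  set N := M * par (l → F) * M⁻¹ with hN
  have hMi : M * M⁻¹ = 1 := mul_nonsing_inv M hdet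
  have hMi2 : M⁻¹ * M = 1 := nonsing_inv_mul M hdet
  have h1 : ∀ w, N * D ψ (g.1 *ᵥ w) = D ψ (g.1 *ᵥ (-w)) * N := by
    intro w
    have h3 : M⁻¹ * D ψ (g.1 *ᵥ w) = D ψ w * M⁻¹ := by
      calc M⁻¹ * D ψ (g.1 *ᵥ w) = M⁻¹ * (D ψ (g.1 *ᵥ w) * M) * M⁻¹ := by
            rw [mul_assoc M⁻¹, mul_assoc (D ψ (g.1 *ᵥ w)), hMi, mul_one]
        _ = M⁻¹ * (M * D ψ w) * M⁻¹ := by rw [hM w]
        _ = D ψ w * M⁻¹ := by rw [← mul_assoc, hMi2, one_mul]
    calc N * D ψ (g.1 *ᵥ w) = M * par (l → F) * (M⁻¹ * D ψ (g.1 *ᵥ w)) := by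
          rw [hN, mul_assoc]
      _ = M * (par (l → F) * D ψ w) * M⁻¹ := by rw [h3]; simp only [mul_assoc]
      _ = (M * D ψ (-w)) * par (l → F) * M⁻¹ := by rw [par_D]; simp only [mul_assoc]
      _ = D ψ (g.1 *ᵥ (-w)) * N := by rw [hM, hN]; simp only [mul_assoc]
  obtain ⟨c, hc⟩ := scalar_of_comm ψ hψ (par (l → F) * N) (by
    intro w
    have h3 := h1 (g⁻¹.1 *ᵥ w)
    rw [mulVec_neg, mulVec_inv_self] at h3
    rw [mul_assoc, h3, ← mul_assoc, par_D, neg_neg, mul_assoc])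
  have h4 : N = c • par (l → F) := by
    calc N = par (l → F) * (par (l → F) * N) := by rw [← mul_assoc, par_mul_par, one_mul]
      _ = c • par (l → F) := by rw [hc, mul_smul_comm, mul_one]
  have h5 : N.trace = 1 := by
    rw [hN, mul_assoc, trace_mul_comm, mul_assoc, hMi2, mul_one, trace_par h2]
  rw [h4, trace_smul, trace_par h2, smul_eq_mul, mul_one] at h5
  rw [h5, one_smul] at h4
  calc par (l → F) * M = N * M := by rw [h4]
    _ = M * par (l → F) := by rw [hN, mul_assoc, hMi2, mul_one]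

/-! ### eigenspaces of the parity operator -/

/-- even (`ε = 1`) and odd (`ε = -1`) functions -/
def Vs (X : Type*) [AddCommGroup X] (ε : ℂ) : Submodule ℂ (X → ℂ) where
  carrier := {f | ∀ u, f (-u) = ε * f u}
  add_mem' {f g} hf hg := by
    intro u
    rw [Pi.add_apply, hf u, hg u, Pi.add_apply, mul_add]
  zero_mem' := by intro u; simp
  smul_mem' c f hf := by
    intro u
    rw [Pi.smul_apply, hf u, Pi.smul_apply, smul_eq_mul, smul_eq_mul]
    ring

theorem mem_Vs {X : Type*} [AddCommGroup X] {ε : ℂ} {f : X → ℂ} :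
    f ∈ Vs X ε ↔ ∀ u, f (-u) = ε * f u := Iff.rfl

variable {X : Type*} [AddCommGroup X] [DecidableEq X] [Fintype X]

/-- the projection -/
noncomputable def Pr (X : Type*) [AddCommGroup X] [DecidableEq X] (ε : ℂ) : Matrix X X ℂ :=
  (2⁻¹ : ℂ) • (1 + ε • par X)

theorem Pr_mulVec (ε : ℂ) (f : X → ℂ) (u : X) :
    (Pr X ε *ᵥ f) u = 2⁻¹ * (f u + ε * f (-u)) := by
  rw [Pr, smul_mulVec, add_mulVec, one_mulVec, smul_mulVec, Pi.smul_apply, Pi.add_apply,
    Pi.smul_apply, par_mulVec, smul_eq_mul, smul_eq_mul]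

theorem Pr_mem {ε : ℂ} (hε : ε * ε = 1) (f : X → ℂ) : Pr X ε *ᵥ f ∈ Vs X ε := by
  intro u
  rw [Pr_mulVec, Pr_mulVec, neg_neg]
  linear_combination (-(2⁻¹ : ℂ) * f (-u)) * hε

theorem Pr_of_mem {ε : ℂ} (hε : ε * ε = 1) {f : X → ℂ} (hf : f ∈ Vs X ε) : Pr X ε *ᵥ f = f := by
  ext u
  rw [Pr_mulVec, hf u]
  linear_combination ((2⁻¹ : ℂ) * f u) * hε

theorem finrank_Vs {ε : ℂ} (hε : ε * ε = 1) :
    (2 : ℂ) * (Module.finrank ℂ (Vs X ε) : ℂ) = Fintype.card X + ε * (par X).trace := by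
  have h1 : LinearMap.IsProj (Vs X ε) (toLin' (Pr X ε)) :=
    ⟨fun f => by rw [toLin'_apply]; exact Pr_mem hε f,
      fun f hf => by rw [toLin'_apply]; exact Pr_of_mem hε hf⟩
  rw [← h1.trace, Matrix.trace_toLin'_eq, Pr, trace_smul, trace_add, trace_one, trace_smul,
    smul_eq_mul, smul_eq_mul]
  ring

/-- compression of a matrix to an eigenspace -/
noncomputable def rs {ε : ℂ} (hε : ε * ε = 1) (M : Matrix X X ℂ) : Module.End ℂ (Vs X ε) :=
  LinearMap.codRestrict (Vs X ε) (toLin' (Pr X ε) ∘ₗ toLin' M ∘ₗ (Vs X ε).subtype)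
    (fun f => by
      rw [LinearMap.comp_apply, LinearMap.comp_apply, toLin'_apply]
      exact Pr_mem hε _)

theorem rs_coe {ε : ℂ} (hε : ε * ε = 1) (M : Matrix X X ℂ) (f : Vs X ε) :
    (rs hε M f : X → ℂ) = Pr X ε *ᵥ (M *ᵥ f.1) := by
  rw [rs, LinearMap.codRestrict_apply, LinearMap.comp_apply, LinearMap.comp_apply, toLin'_apply,
    toLin'_apply, Submodule.subtype_apply]

theorem mulVec_mem {ε : ℂ} (M : Matrix X X ℂ) (hM : par X * M = M * par X) {f : X → ℂ}
    (hf : f ∈ Vs X ε) : M *ᵥ f ∈ Vs X ε := by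
  intro u
  have h1 : par X *ᵥ f = ε • f := by
    ext v
    rw [par_mulVec, hf v]; rfl
  have h2 : par X *ᵥ (M *ᵥ f) = ε • (M *ᵥ f) := by
    rw [mulVec_mulVec, hM, ← mulVec_mulVec, h1, mulVec_smul]
  have h3 := congrFun h2 u
  rw [par_mulVec] at h3
  exact h3

theorem rs_coe' {ε : ℂ} (hε : ε * ε = 1) (M : Matrix X X ℂ) (hM : par X * M = M * par X)
    (f : Vs X ε) : (rs hε M f : X → ℂ) = M *ᵥ f.1 := by
  rw [rs_coe, Pr_of_mem hε (mulVec_mem M hM f.2)]

theorem rs_mul {ε : ℂ} (hε : ε * ε = 1) (M N : Matrix X X ℂ) (hM : par X * M = M * par X)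
    (hN : par X * N = N * par X) : rs hε (M * N) = rs hε M * rs hε N := by
  apply LinearMap.ext
  intro f
  apply Subtype.ext
  have hMN : par X * (M * N) = (M * N) * par X := by
    rw [← mul_assoc, hM, mul_assoc, hN, mul_assoc]
  rw [Module.End.mul_apply, rs_coe' hε _ hMN, rs_coe' hε _ hM, rs_coe' hε _ hN, mulVec_mulVec]

theorem rs_one {ε : ℂ} (hε : ε * ε = 1) : rs hε (1 : Matrix X X ℂ) = 1 := by
  apply LinearMap.ext
  intro f
  apply Subtype.ext
  rw [rs_coe' hε _ (by rw [mul_one, one_mul]), one_mulVec, Module.End.one_apply]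

theorem rs_smul {ε : ℂ} (hε : ε * ε = 1) (c : ℂ) (M : Matrix X X ℂ) :
    rs hε (c • M) = c • rs hε M := by
  apply LinearMap.ext
  intro f
  apply Subtype.ext
  rw [rs_coe, LinearMap.smul_apply, Submodule.coe_smul, rs_coe, smul_mulVec, mulVec_smul]

theorem det_rs_ne_zero {ε : ℂ} (hε : ε * ε = 1) (M : Matrix X X ℂ) (hM : par X * M = M * par X)
    (hu : IsUnit M) : LinearMap.det (rs hε M) ≠ 0 := by
  have hdet : IsUnit M.det := (isUnit_iff_isUnit_det M).mp hu
  have hMi : M * M⁻¹ = 1 := mul_nonsing_inv M hdet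
  have hMi2 : M⁻¹ * M = 1 := nonsing_inv_mul M hdet
  have h1 : par X * M⁻¹ = M⁻¹ * par X := by
    calc par X * M⁻¹ = M⁻¹ * (M * par X) * M⁻¹ := by rw [← mul_assoc, hMi2, one_mul]
      _ = M⁻¹ * par X := by rw [← hM, mul_assoc, mul_assoc, hMi, mul_one]
  have h2 : rs hε M * rs hε M⁻¹ = 1 := by rw [← rs_mul hε M M⁻¹ hM h1, hMi, rs_one]
  have h3 := congrArg LinearMap.det h2
  rw [map_mul, map_one] at h3
  intro h0
  rw [h0, zero_mul] at h3
  exact zero_ne_one h3

theorem one_sq : (1 : ℂ) * 1 = 1 := one_mul 1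
theorem neg_one_sq' : (-1 : ℂ) * (-1) = 1 := by ring

end H44.Weil
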