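import Cfsg.Agent.Lib.H44.WeilPar
import Cfsg.Agent.Lib.H44.LSIrr
import Cfsg.Agent.Lib.H44.LSSp

/-! The Weil representation of the symplectic group in odd characteristic and its odd part. -/

set_option autoImplicit false

open Matrix H6.Symp

namespace H44.Weil

variable {F : Type*} [Field F] {l : Type*} [Fintype l] [DecidableEq l]
variable [Fintype F] [DecidableEq F] (ψ : AddChar F ℂ)

/-- normalised intertwiners -/
def Nm (g : symplecticGroup l F) (M : Matrix (l → F) (l → F) ℂ) : Prop :=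
  Inter ψ g.1 M ∧ IsUnit M ∧ LinearMap.det (rs one_sq M) = LinearMap.det (rs neg_one_sq' M)

theorem finrank_even (h2 : (2 : F) ≠ 0) :
    2 * Module.finrank ℂ (Vs (l → F) 1) = Fintype.card (l → F) + 1 := by
  have h := finrank_Vs (X := l → F) one_sq
  rw [trace_par h2, mul_one] at h
  exact_mod_cast h

theorem finrank_odd (h2 : (2 : F) ≠ 0) :
    2 * Module.finrank ℂ (Vs (l → F) (-1)) + 1 = Fintype.card (l → F) := by
  have h := finrank_Vs (X := l → F) neg_one_sq'
  rw [trace_par h2, mul_one] at h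
  have h1 : (2 : ℂ) * (Module.finrank ℂ (Vs (l → F) (-1)) : ℂ) + 1 = Fintype.card (l → F) := by
    rw [h]; ring
  exact_mod_cast h1

theorem finrank_diff (h2 : (2 : F) ≠ 0) :
    Module.finrank ℂ (Vs (l → F) 1) = Module.finrank ℂ (Vs (l → F) (-1)) + 1 := by
  have h3 := finrank_even (l := l) h2
  have h4 := finrank_odd (l := l) h2
  omega

theorem exists_inter (h2 : (2 : F) ≠ 0) (hψ : ψ ≠ 1) (g : symplecticGroup l F) :
    ∃ M, Inter ψ g.1 M ∧ IsUnit M := by
  obtain ⟨X, hX⟩ := avg_ne_zero ψ hψ g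
  have h := avg_inter ψ h2 g X
  exact ⟨_, h, isUnit_of_inter ψ hψ g.1 _ h hX⟩

theorem inter_smul (g : Matrix (l ⊕ l) (l ⊕ l) F) (c : ℂ) (M : Matrix (l → F) (l → F) ℂ)
    (hM : Inter ψ g M) : Inter ψ g (c • M) := by
  intro w
  rw [smul_mul_assoc, hM, mul_smul_comm]

theorem inter_unique (hψ : ψ ≠ 1) (g : symplecticGroup l F) (M M' : Matrix (l → F) (l → F) ℂ)
    (hM : Inter ψ g.1 M) (hu : IsUnit M) (hM' : Inter ψ g.1 M') : ∃ c : ℂ, M' = c • M := by
  have hdet : IsUnit M.det := (isUnit_iff_isUnit_det M).mp hu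
  have hMi : M * M⁻¹ = 1 := mul_nonsing_inv M hdet
  have hMi2 : M⁻¹ * M = 1 := nonsing_inv_mul M hdet
  obtain ⟨c, hc⟩ := scalar_of_comm ψ hψ (M⁻¹ * M') (by
    intro w
    have h3 : M⁻¹ * D ψ (g.1 *ᵥ w) = D ψ w * M⁻¹ := by
      calc M⁻¹ * D ψ (g.1 *ᵥ w) = M⁻¹ * (D ψ (g.1 *ᵥ w) * M) * M⁻¹ := by
            rw [mul_assoc M⁻¹, mul_assoc (D ψ (g.1 *ᵥ w)), hMi, mul_one]
        _ = M⁻¹ * (M * D ψ w) * M⁻¹ := by rw [hM w]
        _ = D ψ w * M⁻¹ := by rw [← mul_assoc, hMi2, one_mul]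
    rw [mul_assoc, hM', ← mul_assoc, h3, mul_assoc])
  refine ⟨c, ?_⟩
  calc M' = M * (M⁻¹ * M') := by rw [← mul_assoc, hMi, one_mul]
    _ = c • M := by rw [hc, mul_smul_comm, mul_one]

theorem nm_comm (h2 : (2 : F) ≠ 0) (hψ : ψ ≠ 1) {g : symplecticGroup l F}
    {M : Matrix (l → F) (l → F) ℂ} (hM : Nm ψ g M) : par (l → F) * M = M * par (l → F) :=
  inter_comm ψ h2 hψ g M hM.1 hM.2.1

theorem exists_nm (h2 : (2 : F) ≠ 0) (hψ : ψ ≠ 1) (g : symplecticGroup l F) :
    ∃ M, Nm ψ g M := by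
  obtain ⟨M, hM, hu⟩ := exists_inter ψ h2 hψ g
  have hcomm := inter_comm ψ h2 hψ g M hM hu
  have hp := det_rs_ne_zero one_sq M hcomm hu
  have hm := det_rs_ne_zero neg_one_sq' M hcomm hu
  set c := LinearMap.det (rs neg_one_sq' M) / LinearMap.det (rs one_sq M) with hc
  have hc0 : c ≠ 0 := div_ne_zero hm hp
  refine ⟨c • M, inter_smul ψ _ c M hM, ?_, ?_⟩
  · rw [isUnit_iff_isUnit_det] at hu ⊢
    rw [det_smul]
    exact (isUnit_iff_ne_zero.mpr (pow_ne_zero _ hc0)).mul hu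
  · rw [rs_smul, rs_smul, LinearMap.det_smul, LinearMap.det_smul, finrank_diff h2, pow_succ]
    have : c * LinearMap.det (rs one_sq M) = LinearMap.det (rs neg_one_sq' M) := by
      rw [hc]; field_simp
    rw [mul_assoc, this]

theorem nm_unique (h2 : (2 : F) ≠ 0) (hψ : ψ ≠ 1) {g : symplecticGroup l F}
    {M M' : Matrix (l → F) (l → F) ℂ} (hM : Nm ψ g M) (hM' : Nm ψ g M') : M' = M := by
  obtain ⟨c, hc⟩ := inter_unique ψ hψ g M M' hM.1 hM.2.1 hM'.1
  have hcomm := nm_comm ψ h2 hψ hM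
  have hp := det_rs_ne_zero one_sq M hcomm hM.2.1
  have hm := det_rs_ne_zero neg_one_sq' M hcomm hM.2.1
  have hcomm' := nm_comm ψ h2 hψ hM'
  have hm' := det_rs_ne_zero neg_one_sq' M' hcomm' hM'.2.1
  have h1 := hM'.2.2
  rw [hc, rs_smul, rs_smul, LinearMap.det_smul, LinearMap.det_smul, finrank_diff h2, pow_succ,
    ← hM.2.2] at h1
  rw [hc, rs_smul, LinearMap.det_smul] at hm'
  have hc0 : c ^ Module.finrank ℂ (Vs (l → F) (-1)) ≠ 0 := left_ne_zero_of_mul hm'
  have h3 : (c ^ Module.finrank ℂ (Vs (l → F) (-1)) * LinearMap.det (rs one_sq M)) * (c - 1) = 0 := by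
    linear_combination h1
  rcases mul_eq_zero.mp h3 with h4 | h4
  · exact absurd h4 (mul_ne_zero hc0 hp)
  · rw [hc, sub_eq_zero.mp h4, one_smul]

theorem nm_mul (h2 : (2 : F) ≠ 0) (hψ : ψ ≠ 1) {g h : symplecticGroup l F}
    {M N : Matrix (l → F) (l → F) ℂ} (hM : Nm ψ g M) (hN : Nm ψ h N) : Nm ψ (g * h) (M * N) := by
  refine ⟨?_, hM.2.1.mul hN.2.1, ?_⟩
  · intro w
    rw [mul_assoc, hN.1, ← mul_assoc, hM.1, coe_mul_mulVec, mul_assoc]
  · have h3 := nm_comm ψ h2 hψ hM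
    have h4 := nm_comm ψ h2 hψ hN
    rw [rs_mul _ _ _ h3 h4, rs_mul _ _ _ h3 h4, map_mul, map_mul, hM.2.2, hN.2.2]

theorem nm_one : Nm ψ (1 : symplecticGroup l F) 1 := by
  refine ⟨?_, isUnit_one, ?_⟩
  · intro w
    rw [one_mul, mul_one, coe_one_mulVec]
  · rw [rs_one, rs_one, map_one, map_one]

/-- the Weil representation -/
noncomputable def weil (h2 : (2 : F) ≠ 0) (hψ : ψ ≠ 1) :
    symplecticGroup l F →* Matrix (l → F) (l → F) ℂ where
  toFun g := (exists_nm ψ h2 hψ g).choose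
  map_one' := nm_unique ψ h2 hψ (nm_one ψ) (exists_nm ψ h2 hψ 1).choose_spec
  map_mul' g h := nm_unique ψ h2 hψ
    (nm_mul ψ h2 hψ (exists_nm ψ h2 hψ g).choose_spec (exists_nm ψ h2 hψ h).choose_spec)
    (exists_nm ψ h2 hψ (g * h)).choose_spec

theorem weil_nm (h2 : (2 : F) ≠ 0) (hψ : ψ ≠ 1) (g : symplecticGroup l F) :
    Nm ψ g (weil ψ h2 hψ g) := (exists_nm ψ h2 hψ g).choose_spec

theorem weil_comm (h2 : (2 : F) ≠ 0) (hψ : ψ ≠ 1) (g : symplecticGroup l F) :
    par (l → F) * weil ψ h2 hψ g = weil ψ h2 hψ g * par (l → F) :=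
  nm_comm ψ h2 hψ (weil_nm ψ h2 hψ g)

theorem weil_inter (h2 : (2 : F) ≠ 0) (hψ : ψ ≠ 1) (g : symplecticGroup l F) (w : l ⊕ l → F) :
    weil ψ h2 hψ g * D ψ w = D ψ (g.1 *ᵥ w) * weil ψ h2 hψ g := (weil_nm ψ h2 hψ g).1 w

/-- the two parts of the Weil representation -/
noncomputable def weilPart (h2 : (2 : F) ≠ 0) (hψ : ψ ≠ 1) {ε : ℂ} (hε : ε * ε = 1) :
    Representation ℂ (symplecticGroup l F) (Vs (l → F) ε) where
  toFun g := rs hε (weil ψ h2 hψ g)
  map_one' := by rw [map_one, rs_one]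
  map_mul' g h := by
    rw [map_mul, rs_mul hε _ _ (weil_comm ψ h2 hψ g) (weil_comm ψ h2 hψ h)]

theorem weilPart_coe (h2 : (2 : F) ≠ 0) (hψ : ψ ≠ 1) {ε : ℂ} (hε : ε * ε = 1)
    (g : symplecticGroup l F) (f : Vs (l → F) ε) :
    (weilPart ψ h2 hψ hε g f : (l → F) → ℂ) = weil ψ h2 hψ g *ᵥ f.1 :=
  rs_coe' hε _ (weil_comm ψ h2 hψ g) f

/-- the odd part is not trivial -/
theorem odd_nontrivial (h2 : (2 : F) ≠ 0) (hψ : ψ ≠ 1) (i j : l) (hij : i ≠ j) :
    ∃ g : symplecticGroup l F, weilPart ψ h2 hψ neg_one_sq' g ≠ 1 := by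
  by_contra hcon
  push Not at hcon
  let x : l → F := Pi.single j 1
  let u0 : l → F := Pi.single i 1
  have hx0 : (Sum.elim x 0 : l ⊕ l → F) ≠ 0 := by
    intro h
    have := congrFun h (Sum.inl j)
    simp [x] at this
  have hy0 : (Sum.elim 0 x : l ⊕ l → F) ≠ 0 := by
    intro h
    have := congrFun h (Sum.inr j)
    simp [x] at this
  obtain ⟨g, hg⟩ := exists_mulVec_eq hx0 hy0
  -- an odd function
  let f : (l → F) → ℂ := fun u => (if u = u0 then 1 else 0) - (if u = -u0 then 1 else 0)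
  have hf : f ∈ Vs (l → F) (-1) := by
    intro u
    simp only [f]
    have h3 : (-u = u0) ↔ (u = -u0) := neg_eq_iff_eq_neg
    have h4 : (-u = -u0) ↔ (u = u0) := neg_inj
    simp only [h3, h4]
    ring
  -- the weil operator fixes odd functions
  have hfix : ∀ f' ∈ Vs (l → F) (-1), weil ψ h2 hψ g *ᵥ f' = f' := by
    intro f' hf'
    have h3 := weilPart_coe ψ h2 hψ neg_one_sq' g ⟨f', hf'⟩
    rw [hcon g, Module.End.one_apply] at h3
    exact h3.symm
  -- the symmetrised Heisenberg operators preserve odd functions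
  have hS : ∀ w : l ⊕ l → F, (D ψ w + D ψ (-w)) *ᵥ f ∈ Vs (l → F) (-1) := by
    intro w
    apply mulVec_mem _ _ hf
    rw [mul_add, add_mul, par_D, par_D, neg_neg]
    abel
  have key : ∀ w : l ⊕ l → F, (D ψ (g.1 *ᵥ w) + D ψ (-(g.1 *ᵥ w))) *ᵥ f =
      (D ψ w + D ψ (-w)) *ᵥ f := by
    intro w
    have h3 := hfix _ (hS w)
    rw [mulVec_mulVec, mul_add, weil_inter, weil_inter, ← add_mul, ← mulVec_mulVec, hfix f hf,
      mulVec_neg] at h3
    exact h3
  have h3 := congrFun (key (Sum.elim x 0)) (u0 - x)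
  rw [hg] at h3
  have hx1 : xp (Sum.elim x 0 : l ⊕ l → F) = x := rfl
  have hy1 : yp (Sum.elim x 0 : l ⊕ l → F) = 0 := rfl
  have hx2 : xp (Sum.elim 0 x : l ⊕ l → F) = 0 := rfl
  have hy2 : yp (Sum.elim 0 x : l ⊕ l → F) = x := rfl
  simp only [add_mulVec, Pi.add_apply, D_mulVec, xp_neg, yp_neg, hx1, hy1, hx2, hy2, neg_zero,
    zero_dotProduct, dotProduct_zero, mul_zero, add_zero, AddChar.map_zero_eq_one, one_mul,
    sub_add_cancel] at h3
  have hxj : x j = 1 := by simp [x]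
  have hu0j : u0 j = 0 := by simp [u0, hij]
  have e1 : f (u0 - x) = 0 := by
    simp only [f]
    rw [if_neg, if_neg, sub_zero]
    · intro h
      have := congrFun h j
      rw [Pi.sub_apply, Pi.neg_apply, hxj, hu0j] at this
      simp at this
    · intro h
      have := congrFun h j
      rw [Pi.sub_apply, hxj, hu0j] at this
      simp at this
  have e2 : f u0 = 1 := by
    simp only [f]
    rw [if_pos trivial, if_neg, sub_zero]
    intro h
    have := congrFun h i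
    simp only [u0, Pi.single_eq_same, Pi.neg_apply] at this
    apply h2
    linear_combination this
  have e3 : f (u0 - x + -x) = 0 := by
    simp only [f]
    rw [if_neg, if_neg, sub_zero]
    · intro h
      have := congrFun h j
      rw [Pi.add_apply, Pi.sub_apply, Pi.neg_apply, Pi.neg_apply, hxj, hu0j] at this
      apply h2
      linear_combination -this
    · intro h
      have := congrFun h j
      rw [Pi.add_apply, Pi.sub_apply, Pi.neg_apply, hxj, hu0j] at this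
      apply h2
      linear_combination -this
  rw [e1, e2, e3] at h3
  simp at h3

/-- The odd part of the Weil representation is irreducible (in rank at least two). -/
theorem odd_irreducible (h2 : (2 : F) ≠ 0) (hψ : ψ ≠ 1) (hodd : Odd (Fintype.card F)) {m : ℕ}
    (hm : Fintype.card l = m + 1) (hm2 : 1 ≤ m) :
    (weilPart (l := l) ψ h2 hψ neg_one_sq').IsIrreducible := by
  have hp : (Fintype.card F : ℂ) ≠ 0 := by
    rw [Nat.cast_ne_zero]
    exact Fintype.card_ne_zero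
  obtain ⟨i, j, hij⟩ : ∃ i j : l, i ≠ j := by
    have : Nontrivial l := Fintype.one_lt_card_iff_nontrivial.mp (by omega)
    exact exists_pair_ne l
  have hfin : Finite (symplecticGroup l F) := by
    have : Finite (Matrix (l ⊕ l) (l ⊕ l) F) := by
      have : Finite ((l ⊕ l) → (l ⊕ l) → F) := inferInstance
      exact this
    infer_instance
  have hdim : 2 * Module.finrank ℂ (Vs (l → F) (-1)) + 1 = Fintype.card F ^ (m + 1) := by
    rw [finrank_odd h2, Fintype.card_fun, hm]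
  apply LSIrr.irr_of_small _ (odd_nontrivial ψ h2 hψ i j hij)
  · intro W τ hlt
    by_contra hcon
    push Not at hcon
    have h5 := LSSp.lower (V := W) hodd hm hp τ hcon
    omega
  · intro W τ hlt
    by_contra hcon
    push Not at hcon
    have h5 : Fintype.card F ^ (m + 1) - 1 ≤
      Module.finrank ℂ ((Vs (l → F) (-1)) ⧸ W) * 2 := by
      apply LSSp.lower hodd hm hp τ
      exact hcon
    omega

end H44.Weil
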